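import Cfsg.Agent.Lib.GenSL.Bidiag
import Cfsg.Agent.Lib.AutPSL.Gen

/-! Subgroups of GL_n containing a full transvection axis group and a regular unipotent. -/

set_option autoImplicit false

namespace Cfsg.Agent.Lib.GenSL

open Matrix Cfsg.Agent.Lib.Subspaces.Transvection

variable {n : ℕ} {F : Type*} [Field F]

/-- All transvections with axis `φ` lie in `K`. -/
def FullAxis (K : Subgroup (GL (Fin n) F)) (φ : Fin n → F) : Prop :=
  ∀ b : Fin n → F, φ ⬝ᵥ b = 0 → Has K b φ

theorem fullAxis_smul {K : Subgroup (GL (Fin n) F)} {φ : Fin n → F} (h : FullAxis K φ) (a : F) :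
    FullAxis K (a • φ) := by
  intro b hb
  rcases eq_or_ne a 0 with rfl | ha
  · rw [zero_smul]; exact has_zero_axis K b
  · exact (h b (by rw [smul_dotProduct, smul_eq_mul, mul_eq_zero] at hb; exact hb.resolve_left ha)).smul_axis a

theorem fullAxis_conj {K : Subgroup (GL (Fin n) F)} {φ : Fin n → F} (h : FullAxis K φ)
    {g : GL (Fin n) F} (hg : g ∈ K) :
    FullAxis K (φ ᵥ* ((g⁻¹ : GL (Fin n) F) : Matrix (Fin n) (Fin n) F)) := by
  intro b hb
  rw [← dotProduct_mulVec] at hb
  have := (h _ hb).conj hg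
  rwa [gl_mulVec_inv] at this

theorem fullAxis_add {K : Subgroup (GL (Fin n) F)} {φ ψ : Fin n → F} (h : FullAxis K φ)
    (h' : FullAxis K ψ) : FullAxis K (φ + ψ) := by
  by_cases hker : ∃ b, φ ⬝ᵥ b = 0 ∧ ψ ⬝ᵥ b ≠ 0
  · obtain ⟨b, hb, hb'⟩ := hker
    set a : F := -(ψ ⬝ᵥ b)⁻¹ with ha
    have hab : φ ⬝ᵥ (a • b) = 0 := by rw [dotProduct_smul, hb, smul_zero]
    have hg : tv (a • b) φ ∈ K := (h b hb).2 a
    have h2 := fullAxis_conj h' hg
    convert h2 using 1
    ext j
    rw [← mul_one ((ψ ᵥ* _) j), ← dotProduct_single, ← dotProduct_mulVec, tv_inv hab,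
      tv_mulVec (by rw [neg_dotProduct, hab, neg_zero]), dotProduct_add, dotProduct_smul, dotProduct_smul,
      neg_dotProduct, dotProduct_single, dotProduct_single, ha]
    simp only [Pi.add_apply, smul_eq_mul, mul_one]
    field_simp
    ring
  · push Not at hker
    rcases eq_or_ne φ 0 with rfl | hφ
    · rwa [zero_add]
    · obtain ⟨x, hx⟩ : ∃ x, φ ⬝ᵥ x = 1 := by
        obtain ⟨y, hy⟩ := exists_dot_eq_one hφ
        exact ⟨y, by rw [dotProduct_comm]; exact hy⟩
      have e : ψ = (ψ ⬝ᵥ x) • φ := by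
        refine dotProduct_eq _ _ fun z => ?_
        have := hker (z - (φ ⬝ᵥ z) • x) (by rw [dotProduct_sub, dotProduct_smul, hx, smul_eq_mul, mul_one, sub_self])
        rw [dotProduct_sub, dotProduct_smul, sub_eq_zero] at this
        rw [this, smul_dotProduct, smul_eq_mul, smul_eq_mul, mul_comm]
      rw [e, show φ + (ψ ⬝ᵥ x) • φ = (1 + ψ ⬝ᵥ x) • φ by rw [add_smul, one_smul]]
      exact fullAxis_smul h _

/-- The axes with full transvection groups form a subspace. -/
def axisSpace (K : Subgroup (GL (Fin n) F)) : Submodule F (Fin n → F) where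
  carrier := {φ | FullAxis K φ}
  zero_mem' := fun b _ => has_zero_axis K b
  add_mem' := fullAxis_add
  smul_mem' := fun a _ h => fullAxis_smul h a

theorem mem_axisSpace {K : Subgroup (GL (Fin n) F)} {φ : Fin n → F} :
    φ ∈ axisSpace K ↔ FullAxis K φ := Iff.rfl

/-- A regular unipotent upper triangular matrix. -/
structure RegUpper (u : GL (Fin n) F) : Prop where
  diag : ∀ i, (u : Matrix (Fin n) (Fin n) F) i i = 1
  upper : ∀ i j : Fin n, j < i → (u : Matrix (Fin n) (Fin n) F) i j = 0
  super : ∀ i j : Fin n, i.val + 1 = j.val → (u : Matrix (Fin n) (Fin n) F) i j ≠ 0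

/-- A nonzero invariant subspace of a regular unipotent upper matrix contains the first basis vector. -/
theorem RegUpper.single_mem {u : GL (Fin n) F} (hu : RegUpper u) (hn : 0 < n)
    (S : Submodule F (Fin n → F)) (hS : ∀ z ∈ S, (u : Matrix (Fin n) (Fin n) F) *ᵥ z ∈ S)
    (hne : S ≠ ⊥) : (Pi.single ⟨0, hn⟩ 1 : Fin n → F) ∈ S := by
  classical
  suffices H : ∀ d : ℕ, ∀ z ∈ S, z ≠ 0 → (∀ i : Fin n, d < i.val → z i = 0) →
      (Pi.single ⟨0, hn⟩ 1 : Fin n → F) ∈ S by
    obtain ⟨z, hz, hz0⟩ := Submodule.exists_mem_ne_zero_of_ne_bot hne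
    exact H n z hz hz0 fun i hi => absurd i.isLt (by omega)
  intro d
  induction d with
  | zero =>
    intro z hz hz0 hsup
    have e : z = z ⟨0, hn⟩ • (Pi.single ⟨0, hn⟩ 1 : Fin n → F) := by
      ext i
      by_cases hi : i = ⟨0, hn⟩
      · subst hi; simp
      · have : i.val ≠ 0 := fun h => hi (Fin.ext h)
        simp [hi, hsup i (by omega)]
    have hc : z ⟨0, hn⟩ ≠ 0 := fun h => hz0 (by rw [e, h, zero_smul])
    have := S.smul_mem (z ⟨0, hn⟩)⁻¹ hz
    rw [e, smul_smul, Pi.smul_apply, Pi.single_eq_same, smul_eq_mul, mul_one, inv_mul_cancel₀ hc, one_smul] at this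
    exact this
  | succ d ih =>
    intro z hz hz0 hsup
    by_cases hd : ∀ i : Fin n, d < i.val → z i = 0
    · exact ih z hz hz0 hd
    push Not at hd
    obtain ⟨j, hj, hzj⟩ := hd
    have hjd : j.val = d + 1 := by
      by_contra h
      exact hzj (hsup j (by omega))
    set z' := (u : Matrix (Fin n) (Fin n) F) *ᵥ z - z with hz'
    have hval : ∀ i : Fin n, d ≤ i.val → z' i = if i.val = d then (u : Matrix (Fin n) (Fin n) F) i j * z j else 0 := by
      intro i hi
      rw [hz', Pi.sub_apply, Matrix.mulVec, dotProduct]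
      by_cases hid : i.val = d
      · rw [if_pos hid, ← Finset.add_sum_erase _ _ (Finset.mem_univ i),
          Finset.sum_eq_single_of_mem j (by simp [Fin.ext_iff]; omega), hu.diag, one_mul]
        · ring
        · intro b hb hbj
          simp [Fin.ext_iff] at hb
          rcases Nat.lt_or_ge b.val i.val with h | h
          · rw [hu.upper i b h, zero_mul]
          · rw [hsup b (by have : b.val ≠ j.val := fun h => hbj (Fin.ext h); omega), mul_zero]
      · rw [if_neg hid, Finset.sum_eq_single i, hu.diag, one_mul, sub_self]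
        · intro b _ hbi
          rcases Nat.lt_or_ge b.val i.val with h | h
          · rw [hu.upper i b h, zero_mul]
          · rw [hsup b (by have : b.val ≠ i.val := fun h => hbi (Fin.ext h); omega), mul_zero]
        · simp
    refine ih z' (S.sub_mem (hS z hz) hz) (fun h => ?_) fun i hi => by rw [hval i hi.le, if_neg (by omega)]
    have h1 := congrFun h ⟨d, by omega⟩
    rw [hval _ le_rfl, if_pos rfl] at h1
    exact mul_ne_zero (hu.super _ j (by simp only; omega)) hzj h1

/-- A full axis not vanishing at the first basis vector gives every root element. -/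
theorem has_of_fullAxis {K : Subgroup (GL (Fin n) F)} {u : GL (Fin n) F} (hu : RegUpper u) (huK : u ∈ K)
    (hn : 0 < n) {φ : Fin n → F} (hφ : FullAxis K φ) (h0 : φ ⟨0, hn⟩ ≠ 0) :
    ∀ b χ : Fin n → F, χ ⬝ᵥ b = 0 → Has K b χ := by
  classical
  let S : Submodule F (Fin n → F) :=
    { carrier := {z | ∀ χ ∈ axisSpace K, χ ⬝ᵥ z = 0}
      zero_mem' := fun χ _ => dotProduct_zero χ
      add_mem' := fun h h' χ hχ => by rw [dotProduct_add, h χ hχ, h' χ hχ, add_zero]
      smul_mem' := fun a z h χ hχ => by rw [dotProduct_smul, h χ hχ, smul_zero] }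
  have hinv : ∀ z ∈ S, (u : Matrix (Fin n) (Fin n) F) *ᵥ z ∈ S := by
    intro z hz χ hχ
    rw [dotProduct_mulVec]
    have := fullAxis_conj hχ (inv_mem huK)
    rw [inv_inv] at this
    exact hz _ this
  have hbot : S = ⊥ := by
    by_contra hne
    have h1 := hu.single_mem hn S hinv hne φ hφ
    rw [dotProduct_single, mul_one] at h1
    exact h0 h1
  have htop : axisSpace K = ⊤ := by
    by_contra hne
    obtain ⟨v, hv⟩ : ∃ v, v ∉ axisSpace K := by
      by_contra h; push Not at h; exact hne (eq_top_iff.2 fun x _ => h x)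
    obtain ⟨z, hz, hz1⟩ := exists_functional hv
    have : z ∈ S := fun χ hχ => by rw [dotProduct_comm]; exact hz χ hχ
    rw [hbot, Submodule.mem_bot] at this
    rw [this, zero_dotProduct] at hz1
    exact zero_ne_one hz1
  intro b χ hb
  exact (mem_axisSpace.1 (htop ▸ Submodule.mem_top : χ ∈ axisSpace K)) b hb

/-- A subgroup of SL whose image has all root elements is everything. -/
theorem eq_top_of_has (hn : 2 ≤ n) (K : Subgroup (Matrix.SpecialLinearGroup (Fin n) F))
    (h : ∀ b χ : Fin n → F, χ ⬝ᵥ b = 0 → Has (K.map Matrix.SpecialLinearGroup.toGL) b χ) : K = ⊤ := by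
  classical
  haveI : Nontrivial (Fin n) := ⟨⟨0, by omega⟩, ⟨1, by omega⟩, by simp⟩
  refine top_le_iff.1 ?_
  rw [← Cfsg.Agent.Lib.AutPSL.closure_transvections, Subgroup.closure_le]
  rintro A ⟨i, j, hij, c, rfl⟩
  have hd : (Pi.single j 1 : Fin n → F) ⬝ᵥ Pi.single i 1 = 0 := by simp [Ne.symm hij]
  obtain ⟨B, hB, hBe⟩ := (h _ _ hd).2 c
  have e : Matrix.SpecialLinearGroup.toGL (Matrix.SpecialLinearGroup.transvection hij c) =
      tv (c • (Pi.single i 1 : Fin n → F)) (Pi.single j 1) := by
    refine Units.ext ?_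
    rw [coe_tv (by rw [dotProduct_smul, hd, smul_zero])]
    show (Matrix.SpecialLinearGroup.transvection hij c : Matrix (Fin n) (Fin n) F) = _
    rw [Matrix.SpecialLinearGroup.transvection_coe]
    ext a b
    simp [vecMulVec_apply, Matrix.single_apply, Pi.single_apply, Matrix.one_apply]
    split_ifs <;> first | rfl | tauto | (exfalso; tauto) | simp
  rw [← e] at hBe
  rwa [Matrix.SpecialLinearGroup.toGL_injective hBe] at hB

end Cfsg.Agent.Lib.GenSL
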