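import Cfsg.Agent.Lib.Subspaces.Transvection

/-! A subgroup of GL_n containing an upper and a lower bidiagonal unipotent matrix and a suitable
element of the highest root subgroup contains all root elements. -/

set_option autoImplicit false

namespace Cfsg.Agent.Lib.GenSL

open Matrix Cfsg.Agent.Lib.Subspaces.Transvection

variable {n : ℕ} {F : Type*} [Field F]

/-- The transvection with centre `b` and axis `φ` lies in `K`. -/
def Mem1 (K : Subgroup (GL (Fin n) F)) (b φ : Fin n → F) : Prop :=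
  φ ⬝ᵥ b = 0 ∧ tv b φ ∈ K

/-- The whole transvection subgroup with centre `b` and axis `φ` lies in `K`. -/
def Has (K : Subgroup (GL (Fin n) F)) (b φ : Fin n → F) : Prop :=
  φ ⬝ᵥ b = 0 ∧ ∀ x : F, tv (x • b) φ ∈ K

variable {K : Subgroup (GL (Fin n) F)}

theorem Mem1.add {b c φ : Fin n → F} (h : Mem1 K b φ) (h' : Mem1 K c φ) : Mem1 K (b + c) φ := by
  refine ⟨by rw [dotProduct_add, h.1, h'.1, add_zero], ?_⟩
  rw [← tv_mul_axis h.1 h'.1]
  exact mul_mem h.2 h'.2

theorem Mem1.neg {b φ : Fin n → F} (h : Mem1 K b φ) : Mem1 K (-b) φ := by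
  refine ⟨by rw [dotProduct_neg, h.1, neg_zero], ?_⟩
  have e : tv (-b) φ = (tv b φ)⁻¹ := by
    rw [tv_inv h.1, show -b = (-1 : F) • b by simp, tv_smul h.1, neg_one_smul]
  rw [e]
  exact inv_mem h.2

theorem Mem1.sub {b c φ : Fin n → F} (h : Mem1 K b φ) (h' : Mem1 K c φ) : Mem1 K (b - c) φ :=
  sub_eq_add_neg b c ▸ h.add h'.neg

theorem Mem1.conj {b φ : Fin n → F} (h : Mem1 K b φ) {g : GL (Fin n) F} (hg : g ∈ K) :
    Mem1 K ((g : Matrix (Fin n) (Fin n) F) *ᵥ b) (φ ᵥ* ((g⁻¹ : GL (Fin n) F) : Matrix (Fin n) (Fin n) F)) := by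
  refine ⟨by rw [vecMul_dot, h.1], ?_⟩
  rw [← conj_tv g h.1]
  exact mul_mem (mul_mem hg h.2) (inv_mem hg)

/-- Commutator of two transvections. -/
theorem Mem1.comm {a b φ ψ : Fin n → F} (h : Mem1 K a φ) (h' : Mem1 K b ψ) (hb : φ ⬝ᵥ b = 0) :
    Mem1 K (-(ψ ⬝ᵥ a) • b) φ := by
  refine ⟨by rw [dotProduct_smul, hb, smul_zero], ?_⟩
  have e : tv (-(ψ ⬝ᵥ a) • b) φ = tv a φ * tv b ψ * (tv a φ)⁻¹ * (tv b ψ)⁻¹ := by
    refine gl_ext fun x => ?_
    have hA : ∀ y, (tv a φ : Matrix (Fin n) (Fin n) F) *ᵥ y = y + (φ ⬝ᵥ y) • a := tv_mulVec h.1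
    have hB : ∀ y, (tv b ψ : Matrix (Fin n) (Fin n) F) *ᵥ y = y + (ψ ⬝ᵥ y) • b := tv_mulVec h'.1
    have hA' : ∀ y, ((tv a φ)⁻¹ : GL (Fin n) F).val *ᵥ y = y + -(φ ⬝ᵥ y) • a := fun y => by
      rw [tv_inv h.1, tv_mulVec (by rw [neg_dotProduct, h.1, neg_zero]), neg_dotProduct]
    have hB' : ∀ y, ((tv b ψ)⁻¹ : GL (Fin n) F).val *ᵥ y = y + -(ψ ⬝ᵥ y) • b := fun y => by
      rw [tv_inv h'.1, tv_mulVec (by rw [neg_dotProduct, h'.1, neg_zero]), neg_dotProduct]
    have hC : ∀ y, (tv (-(ψ ⬝ᵥ a) • b) φ : Matrix (Fin n) (Fin n) F) *ᵥ y = y + (φ ⬝ᵥ y) • (-(ψ ⬝ᵥ a) • b) :=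
      tv_mulVec (by rw [dotProduct_smul, hb, smul_zero])
    simp only [gl_mul_mulVec, hA, hB, hA', hB', hC, dotProduct_add, dotProduct_smul, h.1, h'.1, hb,
      smul_eq_mul, mul_zero, add_zero]
    module
  rw [e]
  exact mul_mem (mul_mem (mul_mem h.2 h'.2) (inv_mem h.2)) (inv_mem h'.2)

theorem Has.mem1 {b φ : Fin n → F} (h : Has K b φ) (x : F) : Mem1 K (x • b) φ :=
  ⟨by rw [dotProduct_smul, h.1, smul_zero], h.2 x⟩

theorem has_of_mem1 {b φ : Fin n → F} (h : ∀ x : F, Mem1 K (x • b) φ) : Has K b φ :=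
  ⟨by simpa using (h 1).1, fun x => (h x).2⟩

theorem Has.add {b c φ : Fin n → F} (h : Has K b φ) (h' : Has K c φ) : Has K (b + c) φ :=
  has_of_mem1 fun x => by rw [smul_add]; exact (h.mem1 x).add (h'.mem1 x)

theorem Has.smul {b φ : Fin n → F} (h : Has K b φ) (r : F) : Has K (r • b) φ :=
  has_of_mem1 fun x => by rw [smul_smul]; exact h.mem1 _

theorem Has.conj {b φ : Fin n → F} (h : Has K b φ) {g : GL (Fin n) F} (hg : g ∈ K) :
    Has K ((g : Matrix (Fin n) (Fin n) F) *ᵥ b) (φ ᵥ* ((g⁻¹ : GL (Fin n) F) : Matrix (Fin n) (Fin n) F)) :=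
  has_of_mem1 fun x => by rw [← mulVec_smul]; exact (h.mem1 x).conj hg

theorem Has.smul_axis {b φ : Fin n → F} (h : Has K b φ) (r : F) : Has K b (r • φ) := by
  refine ⟨by rw [smul_dotProduct, h.1, smul_zero], fun x => ?_⟩
  rw [← tv_smul (h.mem1 x).1, smul_smul]
  exact h.2 _

theorem Has.add_axis {b φ ψ : Fin n → F} (h : Has K b φ) (h' : Has K b ψ) : Has K b (φ + ψ) := by
  refine ⟨by rw [add_dotProduct, h.1, h'.1, add_zero], fun x => ?_⟩
  rw [← tv_mul_center (h.mem1 x).1 (h'.mem1 x).1]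
  exact mul_mem (h.2 x) (h'.2 x)

theorem has_zero_axis (K : Subgroup (GL (Fin n) F)) (b : Fin n → F) : Has K b 0 :=
  ⟨zero_dotProduct b, fun x => by rw [tv_zero_right]; exact one_mem K⟩

theorem has_zero_center (K : Subgroup (GL (Fin n) F)) (φ : Fin n → F) : Has K 0 φ :=
  ⟨dotProduct_zero φ, fun x => by rw [smul_zero, tv_zero_left]; exact one_mem K⟩

theorem Has.sum {φ : Fin n → F} {ι : Type*} (s : Finset ι) (b : ι → Fin n → F)
    (h : ∀ i ∈ s, Has K (b i) φ) : Has K (∑ i ∈ s, b i) φ := by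
  classical
  induction s using Finset.induction with
  | empty => simpa using has_zero_center K φ
  | insert a s ha ih =>
    rw [Finset.sum_insert ha]
    exact (h a (Finset.mem_insert_self a s)).add (ih fun i hi => h i (Finset.mem_insert_of_mem hi))

theorem Has.sum_axis {b : Fin n → F} {ι : Type*} (s : Finset ι) (φ : ι → Fin n → F)
    (h : ∀ i ∈ s, Has K b (φ i)) : Has K b (∑ i ∈ s, φ i) := by
  classical
  induction s using Finset.induction with
  | empty => simpa using has_zero_axis K b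
  | insert a s ha ih =>
    rw [Finset.sum_insert ha]
    exact (h a (Finset.mem_insert_self a s)).add_axis (ih fun i hi => h i (Finset.mem_insert_of_mem hi))

/-- `Has` from a commutator. -/
theorem Has.of_comm {a b φ ψ : Fin n → F} (h : Mem1 K a φ) (h' : Has K b ψ) (hb : φ ⬝ᵥ b = 0)
    (ht : ψ ⬝ᵥ a ≠ 0) : Has K b φ :=
  has_of_mem1 fun x => by
    have h2 := h.comm (h'.mem1 (-x / (ψ ⬝ᵥ a))) (by rw [dotProduct_smul, hb, smul_zero])
    rw [smul_smul] at h2
    convert h2 using 2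
    field_simp

/-- The axis of `v T v⁻¹` does not vanish at the first basis vector. -/
theorem dot_ne_zero (hn : 3 ≤ n) (v : GL (Fin n) F) (e : Fin n → Fin n → F) (he : ∀ i, e i = Pi.single i 1)
    (s : Fin n → F) (hs : ∀ i, s i ≠ 0)
    (hv1 : ∀ i j : Fin n, i.val + 1 = j.val → (v : Matrix (Fin n) (Fin n) F) *ᵥ e i = e i + s i • e j)
    (hvl : ∀ i : Fin n, i.val + 1 = n → (v : Matrix (Fin n) (Fin n) F) *ᵥ e i = e i) :
    (e ⟨n - 1, by omega⟩ ᵥ* ((v⁻¹ : GL (Fin n) F) : Matrix (Fin n) (Fin n) F)) ⬝ᵥ e ⟨0, by omega⟩ ≠ 0 := by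
  set o : Fin n := ⟨0, by omega⟩ with ho
  set o1 : Fin n := ⟨1, by omega⟩ with ho1
  set l : Fin n := ⟨n - 1, by omega⟩ with hl
  have hexp : ∀ w : Fin n → F, w = ∑ j, w j • e j := by
    intro w; ext i
    simp [he, Finset.sum_apply, Pi.single_apply]
  have hco : ∀ (w : Fin n → F) (j : Fin n), e j ⬝ᵥ w = w j := by
    intro w j; rw [he, single_dotProduct, one_mul]
  intro h
  rw [← dotProduct_mulVec, hco] at h
  set w := ((v⁻¹ : GL (Fin n) F) : Matrix (Fin n) (Fin n) F) *ᵥ e o with hw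
  have hvw : (v : Matrix (Fin n) (Fin n) F) *ᵥ w = e o := gl_mulVec_inv v _
  -- coordinates of `v w`
  have hvco : ∀ i j : Fin n, i.val + 1 = j.val → ((v : Matrix (Fin n) (Fin n) F) *ᵥ w) j = w j + s i * w i := by
    intro i j hij
    conv_lhs => rw [hexp w]
    rw [mulVec_sum, Finset.sum_apply, ← Finset.sum_subset (Finset.subset_univ ({i, j} : Finset (Fin n)))]
    · rw [Finset.sum_pair (by simp [Fin.ext_iff]; omega), mulVec_smul, mulVec_smul, hv1 i j hij]
      by_cases hjl : j.val + 1 = n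
      · rw [hvl j hjl]
        simp [he, show i ≠ j by simp [Fin.ext_iff]; omega, show j ≠ i by simp [Fin.ext_iff]; omega]; ring
      · rw [hv1 j ⟨j.val + 1, by omega⟩ rfl]
        simp [he, Fin.ext_iff, show i.val ≠ j.val by omega, show j.val ≠ i.val by omega]; ring
    · intro k _ hk
      simp only [Finset.mem_insert, Finset.mem_singleton, not_or, Fin.ext_iff] at hk
      rw [mulVec_smul]
      by_cases hkl : k.val + 1 = n
      · rw [hvl k hkl]; simp [he, Fin.ext_iff, Ne.symm hk.2]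
      · rw [hv1 k ⟨k.val + 1, by omega⟩ rfl]
        simp [he, Fin.ext_iff, Ne.symm hk.2, show j.val ≠ k.val + 1 by omega]
  have hne : ∀ (k : ℕ) (hk : k < n), w ⟨k, hk⟩ ≠ 0 := by
    intro k
    induction k with
    | zero =>
      intro hk h0
      have h1 := congrFun hvw o
      conv_lhs at h1 => rw [hexp w]
      rw [mulVec_sum, Finset.sum_apply, Finset.sum_eq_single o] at h1
      · rw [mulVec_smul, hv1 o o1 rfl] at h1
        simp [he, ho, ho1, Fin.ext_iff, h0] at h1
      · intro b _ hb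
        rw [mulVec_smul]
        have hb' : b.val ≠ 0 := fun e => hb (Fin.ext e)
        by_cases hbl : b.val + 1 = n
        · rw [hvl b hbl]; simp [he, ho, Fin.ext_iff, Ne.symm hb']
        · rw [hv1 b ⟨b.val + 1, by omega⟩ rfl]; simp [he, ho, Fin.ext_iff, Ne.symm hb']
      · simp
    | succ k ih =>
      intro hk h0
      have h1 := hvco ⟨k, by omega⟩ ⟨k + 1, hk⟩ rfl
      rw [congrFun hvw, h0, he, Pi.single_eq_of_ne (by simp [ho, Fin.ext_iff]), zero_add] at h1
      exact mul_ne_zero (hs _) (ih (by omega)) h1.symm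
  exact hne (n - 1) (by omega) h

/-- Main generation lemma. -/
theorem has_single (hn : 3 ≤ n) [Fintype F] {u v : GL (Fin n) F} (hu : u ∈ K) (hv : v ∈ K)
    (e : Fin n → Fin n → F) (he : ∀ i, e i = Pi.single i 1)
    (hu0 : ∀ j : Fin n, j.val = 0 → (u : Matrix (Fin n) (Fin n) F) *ᵥ e j = e j)
    (hu1 : ∀ i j : Fin n, i.val + 1 = j.val → (u : Matrix (Fin n) (Fin n) F) *ᵥ e j = e j + e i)
    (s : Fin n → F) (hs : ∀ i, s i ≠ 0)
    (hv1 : ∀ i j : Fin n, i.val + 1 = j.val → (v : Matrix (Fin n) (Fin n) F) *ᵥ e i = e i + s i • e j)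
    (hvl : ∀ i : Fin n, i.val + 1 = n → (v : Matrix (Fin n) (Fin n) F) *ᵥ e i = e i)
    (lam μ : F) (hμ : ∀ z : F, z ≠ 0 → ∃ k : ℕ, μ ^ (k + 1) = z)
    (hlam : lam * (-((e ⟨n - 1, by omega⟩ ᵥ* ((v⁻¹ : GL (Fin n) F) : Matrix (Fin n) (Fin n) F)) ⬝ᵥ
      e ⟨0, by omega⟩) * s ⟨0, by omega⟩) = μ)
    (hT : Mem1 K (lam • e ⟨0, by omega⟩) (e ⟨n - 1, by omega⟩)) :
    ∀ i j : Fin n, i ≠ j → Has K (e i) (e j) := by
  have hdot : ∀ i j : Fin n, e i ⬝ᵥ e j = if i = j then 1 else 0 := by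
    intro i j
    rw [he, he, single_dotProduct, one_mul, Pi.single_apply]
  have hexp : ∀ w : Fin n → F, w = ∑ j, w j • e j := by
    intro w; ext i
    simp [he, Finset.sum_apply, Pi.single_apply]
  have hco : ∀ (w : Fin n → F) (j : Fin n), e j ⬝ᵥ w = w j := by
    intro w j; rw [he, single_dotProduct, one_mul]
  have hco' : ∀ (w : Fin n → F) (j : Fin n), w ⬝ᵥ e j = w j := by
    intro w j; rw [dotProduct_comm]; exact hco w j
  set o : Fin n := ⟨0, by omega⟩ with ho
  set o1 : Fin n := ⟨1, by omega⟩ with ho1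
  set l : Fin n := ⟨n - 1, by omega⟩ with hl
  set φ := e l with hφ
  set ψ := φ ᵥ* ((v⁻¹ : GL (Fin n) F) : Matrix (Fin n) (Fin n) F) with hψ
  -- `φ` is fixed by `u`
  have hφu : φ ᵥ* (u : Matrix (Fin n) (Fin n) F) = φ := by
    ext j
    rw [← hco' (φ ᵥ* _) j, ← dotProduct_mulVec]
    by_cases hj : j.val = 0
    · rw [hu0 j hj, hco']
    · rw [hu1 ⟨j.val - 1, by omega⟩ j (by simp only; omega), dotProduct_add, hco', hφ, hdot,
        if_neg (by simp [hl, Fin.ext_iff]; omega), add_zero]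
  have hφu' : φ ᵥ* ((u⁻¹ : GL (Fin n) F) : Matrix (Fin n) (Fin n) F) = φ := by
    conv_lhs => rw [← hφu]
    rw [vecMul_vecMul, ← Units.val_mul, mul_inv_cancel, Units.val_one, vecMul_one]
  -- the coefficient `t`
  have ht : ψ ⬝ᵥ e o ≠ 0 := dot_ne_zero hn v e he s hs hv1 hvl
  set t := ψ ⬝ᵥ e o with htd
  -- squaring
  have hφj : ∀ j : Fin n, j.val + 1 < n → φ ⬝ᵥ e j = 0 := by
    intro j hj; rw [hφ, hdot, if_neg (by simp [hl, Fin.ext_iff]; omega)]
  have hφv : ∀ j : Fin n, j.val + 2 < n → φ ⬝ᵥ ((v : Matrix (Fin n) (Fin n) F) *ᵥ e j) = 0 := by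
    intro j hj
    rw [hv1 j ⟨j.val + 1, by omega⟩ rfl, dotProduct_add, dotProduct_smul, hφj j (by omega),
      hφj _ (by simp only; omega)]
    simp
  have hstep : ∀ x y : F, Mem1 K (x • e o) φ → Mem1 K (y • e o) φ → Mem1 K ((x * y * (-t * s o)) • e o) φ := by
    intro x y hx hy
    have h1 := hx.comm (hy.conj hv) (by rw [mulVec_smul, dotProduct_smul, hφv o (by simp [ho]; omega), smul_zero])
    rw [← hψ, dotProduct_smul, ← htd, mulVec_smul, smul_smul, hv1 o o1 rfl] at h1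
    have h2 := h1.conj hu
    rw [hφu', mulVec_smul, mulVec_add, mulVec_smul, hu0 o rfl, hu1 o o1 rfl] at h2
    have h3 := h2.sub h1
    convert h3 using 1
    simp only [smul_eq_mul]
    module
  -- the whole root group
  have hs0 : -t * s o ≠ 0 := mul_ne_zero (neg_ne_zero.2 ht) (hs o)
  have hlam' : lam = μ / (-t * s o) := by rw [eq_div_iff hs0]; exact hlam
  have hpow : ∀ k : ℕ, Mem1 K ((μ ^ (k + 1) / (-t * s o)) • e o) φ := by
    intro k
    induction k with
    | zero => rw [zero_add, pow_one, ← hlam']; exact hT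
    | succ k ih =>
      have := hstep _ _ ih hT
      convert this using 2
      rw [hlam']; field_simp; ring
  have hW0 : Has K (e o) φ := has_of_mem1 fun x => by
    rcases eq_or_ne x 0 with rfl | hx
    · rw [zero_smul]
      exact ⟨dotProduct_zero _, by rw [tv_zero_left]; exact one_mem K⟩
    · obtain ⟨k, hk⟩ := hμ (x * (-t * s o)) (mul_ne_zero hx hs0)
      have := hpow k
      rwa [hk, mul_div_cancel_right₀ _ hs0] at this
  -- all centres
  have hW : ∀ (k : ℕ) (hk : k + 1 < n), Has K (e ⟨k, by omega⟩) φ := by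
    intro k
    induction k with
    | zero => intro _; exact hW0
    | succ k ih =>
      intro hk
      have h1 := Has.of_comm (by simpa using hW0.mem1 1) ((ih (by omega)).conj hv)
        (hφv ⟨k, by omega⟩ (by simp only; omega)) (by rw [← hψ, ← htd]; exact ht)
      rw [hv1 ⟨k, by omega⟩ ⟨k + 1, by omega⟩ rfl] at h1
      have h2 := (h1.add ((ih (by omega)).smul (-1))).smul (s ⟨k, by omega⟩)⁻¹
      convert h2 using 1
      simp [smul_smul, inv_mul_cancel₀ (hs _)]
  have hWall : ∀ b : Fin n → F, φ ⬝ᵥ b = 0 → Has K b φ := by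
    intro b hb
    rw [hexp b]
    refine Has.sum _ _ fun j _ => ?_
    by_cases hj : j = l
    · subst hj
      rw [hφ, hco] at hb
      rw [hb, zero_smul]; exact has_zero_center K φ
    · exact (hW j.val (by
        have : j.val ≠ n - 1 := fun h => hj (Fin.ext h)
        omega)).smul _
  -- moving a centre to `e l`
  have hmove : ∀ (a χ : Fin n → F), Has K a χ → φ ⬝ᵥ a = 1 →
      ∃ χ', Has K (e l) χ' ∧ ∀ j : Fin n, j.val + 1 < n → χ' ⬝ᵥ e j = χ ⬝ᵥ e j := by
    intro a χ h ha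
    have hw : φ ⬝ᵥ (e l - a) = 0 := by rw [dotProduct_sub, ha, hφ, hdot, if_pos rfl, sub_self]
    have hg : tv (e l - a) φ ∈ K := by simpa using ((hWall _ hw).mem1 1).2
    refine ⟨χ ᵥ* (((tv (e l - a) φ)⁻¹ : GL (Fin n) F) : Matrix (Fin n) (Fin n) F), ?_, fun j hj => ?_⟩
    · have h1 := h.conj hg
      rwa [tv_mulVec hw, ha, one_smul, add_sub_cancel] at h1
    · rw [← dotProduct_mulVec, tv_inv hw, tv_mulVec (by rw [neg_dotProduct, hw, neg_zero]),
        neg_dotProduct, hφj j hj, neg_zero, zero_smul, add_zero]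
  -- all axes
  have hP : ∀ k : ℕ, k + 1 < n → ∃ χ, Has K (e l) χ ∧
      (∀ j : Fin n, j.val + 1 < n → j.val < k → χ ⬝ᵥ e j = 0) ∧
      ∀ j : Fin n, j.val + 1 < n → j.val = k → χ ⬝ᵥ e j = t := by
    intro k
    induction k with
    | zero =>
      intro _
      let i : Fin n := ⟨n - 2, by omega⟩
      have hil : i.val + 1 = l.val := by simp [i, hl]; omega
      have h1 := ((hW i.val (by simp [i]; omega)).conj hv).smul (s i)⁻¹
      obtain ⟨χ, hχ, hc⟩ := hmove _ _ h1 (by
        rw [hv1 i l hil, dotProduct_smul, dotProduct_add, dotProduct_smul, hφj i (by simp [i]; omega),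
          hφ, hdot, if_pos rfl]
        simp [inv_mul_cancel₀ (hs i)])
      exact ⟨χ, hχ, fun j _ h => absurd h (Nat.not_lt_zero _), fun j hj h => by
        rw [hc j hj, ← hψ, htd]; exact congrArg (fun z => ψ ⬝ᵥ e z) (Fin.ext h)⟩
    | succ k ih =>
      intro hk
      obtain ⟨χ, hχ, hlow, hat⟩ := ih (by omega)
      have h1 := hχ.conj (inv_mem hu)
      rw [inv_inv] at h1
      obtain ⟨χ', hχ', hc⟩ := hmove _ _ h1 (by rw [dotProduct_mulVec, hφu', hφ, hdot, if_pos rfl])
      refine ⟨χ' + (-1 : F) • χ, hχ'.add_axis (hχ.smul_axis _), fun j hj h => ?_, fun j hj h => ?_⟩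
      · rw [add_dotProduct, smul_dotProduct, hc j hj, ← dotProduct_mulVec]
        by_cases hj0 : j.val = 0
        · rw [hu0 j hj0]; simp
        · rw [hu1 ⟨j.val - 1, by omega⟩ j (by simp only; omega), dotProduct_add,
            hlow ⟨j.val - 1, by omega⟩ (by simp only; omega) (by simp only; omega)]
          simp
      · rw [add_dotProduct, smul_dotProduct, hc j hj, ← dotProduct_mulVec,
          hu1 ⟨k, by omega⟩ j (by simp only; omega), dotProduct_add,
          hat ⟨k, by omega⟩ (by simp only; omega) rfl]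
        simp
  have hA : ∀ (d : ℕ) (j : Fin n), j.val + 1 + d + 1 = n → Has K (e l) (e j) := by
    intro d
    induction d using Nat.strong_induction_on with
    | _ d ih =>
      intro j hj
      obtain ⟨χ, hχ, hlow, hat⟩ := hP j.val (by omega)
      have h2 : Has K (e l) (∑ i ∈ Finset.univ.erase j, χ i • e i) := by
        refine Has.sum_axis _ _ fun i hi => ?_
        have hij : i.val ≠ j.val := fun h => (Finset.mem_erase.1 hi).1 (Fin.ext h)
        by_cases hil : i = l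
        · subst hil
          have := hχ.1
          rw [hco'] at this
          rw [this, zero_smul]; exact has_zero_axis K _
        have hil' : i.val ≠ n - 1 := fun h => hil (Fin.ext h)
        rcases Nat.lt_or_ge i.val j.val with h | h
        · rw [← hco' χ i, hlow i (by omega) h, zero_smul]; exact has_zero_axis K _
        · exact (ih (n - i.val - 2) (by omega) i (by omega)).smul_axis _
      have h3 := (hχ.add_axis (h2.smul_axis (-1))).smul_axis t⁻¹
      convert h3 using 1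
      have hx : χ = t • e j + ∑ i ∈ Finset.univ.erase j, χ i • e i := by
        rw [← hat j (by omega) rfl, hco' χ j, Finset.add_sum_erase Finset.univ (fun i => χ i • e i) (Finset.mem_univ j)]
        exact hexp χ
      generalize (∑ i ∈ Finset.univ.erase j, χ i • e i) = S at hx ⊢
      rw [hx]
      simp [smul_smul, inv_mul_cancel₀ ht]
  intro i j hij
  by_cases hjl : j = l
  · subst hjl
    exact hWall _ (by rw [hφ, hdot, if_neg (Ne.symm hij)])
  have hjl' : j.val ≠ n - 1 := fun h => hjl (Fin.ext h)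
  have hj2 := hA (n - j.val - 2) j (by omega)
  by_cases hil : i = l
  · subst hil; exact hj2
  refine Has.of_comm (a := e l) (ψ := φ) ?_ ?_ ?_ ?_
  · simpa using hj2.mem1 1
  · exact hWall _ (by rw [hφ, hdot, if_neg (Ne.symm hil)])
  · rw [hdot, if_neg hij.symm]
  · rw [hφ, hdot, if_pos rfl]; exact one_ne_zero

end Cfsg.Agent.Lib.GenSL
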