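import Cfsg.Agent.Lib.GenSL.Bidiag

/-!
Coordinates for the companion matrix of `(X - 1)^2 h`, `h` the minimal polynomial of `β`.
-/

set_option autoImplicit false

namespace Cfsg.Agent.Lib.GenSL

open Matrix Polynomial Cfsg.Agent.Lib.Subspaces.Transvection

variable {n : ℕ} {F : Type*} [Field F]

/-- The companion matrix of a monic polynomial of degree `n`. -/
noncomputable def cm (f : F[X]) (n : ℕ) : Matrix (Fin n) (Fin n) F :=
  Matrix.of fun i j => if j.val + 1 < n then (if i.val = j.val + 1 then 1 else 0) else -f.coeff i.val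

theorem cm_single (f : F[X]) (i j : Fin n) (h : i.val + 1 = j.val) :
    cm f n *ᵥ Pi.single i 1 = Pi.single j 1 := by
  rw [mulVec_single_one]
  ext k
  have := j.isLt
  simp [cm, show i.val + 1 < n by omega, Pi.single_apply, Fin.ext_iff, h]

theorem cm_single_last (f : F[X]) (i : Fin n) (h : i.val + 1 = n) :
    cm f n *ᵥ Pi.single i 1 = fun k : Fin n => -f.coeff k.val := by
  rw [mulVec_single_one]
  ext k
  simp [cm, h]

/-- The all-one functional: evaluation at `1`. -/
def ones (n : ℕ) (F : Type*) [Field F] : Fin n → F := fun _ => 1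

/-- The derivative at `1`. -/
def derv (n : ℕ) (F : Type*) [Field F] : Fin n → F := fun i => (i.val : F)

theorem derivative_eval_one (p : F[X]) {N : ℕ} (h : p.natDegree < N) :
    p.derivative.eval 1 = ∑ i ∈ Finset.range N, (i : F) * p.coeff i := by
  conv_lhs => rw [p.as_sum_range' N h]
  rw [derivative_sum, eval_finsetSum]
  refine Finset.sum_congr rfl fun i _ => ?_
  rw [derivative_monomial, eval_monomial, one_pow, mul_one, mul_comm]

theorem ones_dot_coeff (p : F[X]) (h : p.natDegree < n) :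
    ones n F ⬝ᵥ (fun k : Fin n => p.coeff k.val) = p.eval 1 := by
  rw [eval_eq_sum_range' h, Finset.sum_range]
  simp [dotProduct, ones]

theorem derv_dot_coeff (p : F[X]) (h : p.natDegree < n) :
    derv n F ⬝ᵥ (fun k : Fin n => p.coeff k.val) = p.derivative.eval 1 := by
  rw [derivative_eval_one p h, Finset.sum_range]
  simp [dotProduct, derv]

theorem ones_dot_low (f : F[X]) (hd : f.natDegree = n) (hm : f.Monic) :
    ones n F ⬝ᵥ (fun k : Fin n => f.coeff k.val) = f.eval 1 - 1 := by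
  rw [eval_eq_sum_range, hd, Finset.sum_range_succ, Finset.sum_range, ← hd, hm.coeff_natDegree, hd]
  simp [dotProduct, ones]

theorem derv_dot_low (f : F[X]) (hd : f.natDegree = n) (hm : f.Monic) :
    derv n F ⬝ᵥ (fun k : Fin n => f.coeff k.val) = f.derivative.eval 1 - (n : F) := by
  rw [derivative_eval_one f (N := n + 1) (by omega), Finset.sum_range_succ, Finset.sum_range, ← hd,
    hm.coeff_natDegree, hd]
  simp [dotProduct, derv]

variable {K : Type*} [Field K] [Algebra F K]

/-- Evaluation at `β`. -/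
noncomputable def pv (n : ℕ) (β : K) : (Fin n → F) →ₗ[F] K :=
  ∑ i : Fin n, (LinearMap.proj i : (Fin n → F) →ₗ[F] F).smulRight (β ^ i.val)

theorem pv_apply (β : K) (z : Fin n → F) : pv n β z = ∑ i : Fin n, z i • β ^ i.val := by
  simp [pv]

theorem pv_single (β : K) (i : Fin n) : pv n β (Pi.single i (1 : F)) = β ^ i.val := by
  rw [pv_apply, Finset.sum_eq_single i] <;> simp +contextual [Pi.single_apply]

theorem pv_coeff (β : K) (p : F[X]) (h : p.natDegree < n) :
    pv n β (fun k : Fin n => p.coeff k.val) = aeval β p := by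
  rw [pv_apply, aeval_eq_sum_range' h, Finset.sum_range]

theorem pv_low (β : K) (f : F[X]) (hd : f.natDegree = n) (hm : f.Monic) :
    pv n β (fun k : Fin n => f.coeff k.val) = aeval β f - β ^ n := by
  rw [pv_apply, aeval_eq_sum_range, hd, Finset.sum_range_succ, Finset.sum_range, ← hd, hm.coeff_natDegree, hd,
    one_smul, add_sub_cancel_right]

/-- `(X - 1)^2 h`. -/
noncomputable def fpoly (F : Type*) [Field F] {K : Type*} [Field K] [Algebra F K] (β : K) : F[X] :=
  (X - C 1) ^ 2 * minpoly F β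

/-- `(X - 1) h`. -/
noncomputable def wpoly (F : Type*) [Field F] {K : Type*} [Field K] [Algebra F K] (β : K) : F[X] :=
  (X - C 1) * minpoly F β

/-- The coefficient vector of `(X - 1) h`: the centre of the transvection. -/
noncomputable def wv (F : Type*) [Field F] {K : Type*} [Field K] [Algebra F K] (n : ℕ) (β : K) : Fin n → F :=
  fun k => (wpoly F β).coeff k.val

/-- Hypotheses on `β`. -/
structure GoodRoot (F : Type*) [Field F] {K : Type*} [Field K] [Algebra F K] (n : ℕ) (β : K) : Prop where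
  two_le : 2 ≤ (minpoly F β).natDegree
  deg : (minpoly F β).natDegree + 2 = n
  rank : Module.finrank F K = (minpoly F β).natDegree
  coeff_zero : (minpoly F β).coeff 0 = (-1) ^ n

namespace GoodRoot

variable {β : K}

theorem integral (hβ : GoodRoot F n β) : IsIntegral F β := by
  by_contra h
  have := hβ.two_le
  rw [minpoly.eq_zero h, natDegree_zero] at this
  omega

theorem monic (hβ : GoodRoot F n β) : (minpoly F β).Monic := minpoly.monic hβ.integral

theorem finite (hβ : GoodRoot F n β) : Module.Finite F K :=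
  Module.finite_of_finrank_pos (by rw [hβ.rank]; have := hβ.two_le; omega)

theorem f_monic (hβ : GoodRoot F n β) : (fpoly F β).Monic :=
  ((monic_X_sub_C 1).pow 2).mul hβ.monic

theorem f_natDegree (hβ : GoodRoot F n β) : (fpoly F β).natDegree = n := by
  rw [fpoly, natDegree_mul (pow_ne_zero _ (X_sub_C_ne_zero 1)) hβ.monic.ne_zero, natDegree_pow,
    natDegree_X_sub_C, mul_one]
  have := hβ.deg; omega

theorem w_monic (hβ : GoodRoot F n β) : (wpoly F β).Monic := (monic_X_sub_C 1).mul hβ.monic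

theorem w_natDegree (hβ : GoodRoot F n β) : (wpoly F β).natDegree + 1 = n := by
  rw [wpoly, natDegree_mul (X_sub_C_ne_zero 1) hβ.monic.ne_zero, natDegree_X_sub_C]
  have := hβ.deg; omega

theorem f_eq (hβ : GoodRoot F n β) : fpoly F β = (X - C 1) * wpoly F β := by
  have := hβ
  rw [fpoly, wpoly]; ring

theorem f_coeff_zero (hβ : GoodRoot F n β) : (fpoly F β).coeff 0 = (-1) ^ n := by
  rw [fpoly, mul_coeff_zero, hβ.coeff_zero, coeff_zero_eq_eval_zero ((X - C 1) ^ 2)]
  simp

theorem w_coeff_zero (hβ : GoodRoot F n β) : (wpoly F β).coeff 0 = -(-1) ^ n := by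
  rw [wpoly, mul_coeff_zero, hβ.coeff_zero]
  simp

theorem f_coeff_succ (hβ : GoodRoot F n β) (i : ℕ) :
    (fpoly F β).coeff (i + 1) = (wpoly F β).coeff i - (wpoly F β).coeff (i + 1) := by
  rw [hβ.f_eq, sub_mul, coeff_sub, coeff_X_mul, C_1, one_mul]

theorem not_root (hβ : GoodRoot F n β) (x : F) : (minpoly F β).eval x ≠ 0 := by
  intro h
  have := degree_eq_one_of_irreducible_of_root (minpoly.irreducible hβ.integral) h
  rw [degree_eq_natDegree hβ.monic.ne_zero] at this
  have h2 := hβ.two_le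
  norm_cast at this
  omega

theorem ne_one (hβ : GoodRoot F n β) : β ≠ 1 := by
  rintro rfl
  have := hβ.two_le
  rw [minpoly.one, ← C_1, natDegree_X_sub_C] at this
  omega

theorem ne_zero (hβ : GoodRoot F n β) : β ≠ 0 := by
  rintro rfl
  have := hβ.two_le
  rw [minpoly.zero, natDegree_X] at this
  omega

theorem w_lt (hβ : GoodRoot F n β) : (wpoly F β).natDegree < n := by
  have := hβ.w_natDegree; omega

theorem ones_wv (hβ : GoodRoot F n β) : ones n F ⬝ᵥ wv F n β = 0 := by
  unfold wv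
  rw [ones_dot_coeff _ hβ.w_lt]
  simp [wpoly]

theorem derv_wv (hβ : GoodRoot F n β) : derv n F ⬝ᵥ wv F n β = (minpoly F β).eval 1 := by
  unfold wv
  rw [derv_dot_coeff _ hβ.w_lt]
  simp [wpoly, derivative_mul]

theorem pv_wv (hβ : GoodRoot F n β) : pv n β (wv F n β) = 0 := by
  unfold wv
  rw [pv_coeff β _ hβ.w_lt, wpoly, map_mul, minpoly.aeval, mul_zero]

theorem wv_ne_zero (hβ : GoodRoot F n β) : wv F n β ≠ 0 := by
  intro h
  have h2 := hβ.derv_wv
  rw [h, dotProduct_zero] at h2
  exact hβ.not_root 1 h2.symm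

theorem ext_zero (hβ : GoodRoot F n β) {z : Fin n → F} (h1 : ones n F ⬝ᵥ z = 0) (h2 : derv n F ⬝ᵥ z = 0)
    (h3 : pv n β z = 0) : z = 0 := by
  have hn : 0 < n := by have := hβ.deg; omega
  set p : F[X] := ∑ i : Fin n, monomial i.val (z i) with hp
  have hco : ∀ k : Fin n, p.coeff k.val = z k := by
    intro k
    rw [hp, finsetSum_coeff, Finset.sum_eq_single k]
    · simp
    · intro b _ hb; rw [coeff_monomial, if_neg (fun e => hb (Fin.ext e))]
    · simp
  have hdeg : p.natDegree < n := by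
    rcases eq_or_ne p 0 with h | h
    · rw [h, natDegree_zero]; exact hn
    · rw [natDegree_lt_iff_degree_lt h]
      refine lt_of_le_of_lt (degree_sum_le _ _) ?_
      refine (Finset.sup_lt_iff (WithBot.bot_lt_coe n)).2 ?_
      intro i _
      exact lt_of_le_of_lt (degree_monomial_le _ _) (WithBot.coe_lt_coe.2 i.isLt)
  have hz : z = fun k : Fin n => p.coeff k.val := funext fun k => (hco k).symm
  rw [hz, ones_dot_coeff p hdeg] at h1
  rw [hz, derv_dot_coeff p hdeg] at h2
  rw [hz, pv_coeff β p hdeg] at h3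
  obtain ⟨q, hq⟩ := dvd_iff_isRoot.2 (show p.IsRoot 1 from h1)
  have hq1 : q.eval 1 = 0 := by
    rw [hq] at h2
    simpa [derivative_mul] using h2
  obtain ⟨q', hq'⟩ := dvd_iff_isRoot.2 (show q.IsRoot 1 from hq1)
  have hd1 : (X - C (1 : F)) ^ 2 ∣ p := ⟨q', by rw [hq, hq']; ring⟩
  have hd2 : minpoly F β ∣ p := minpoly.dvd F β h3
  have hcop : IsCoprime ((X - C (1 : F)) ^ 2) (minpoly F β) := by
    refine IsCoprime.pow_left ?_
    rw [(irreducible_X_sub_C (1 : F)).coprime_iff_not_dvd, dvd_iff_isRoot]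
    exact hβ.not_root 1
  have hd : fpoly F β ∣ p := hcop.mul_dvd hd1 hd2
  by_contra hne
  have hp0 : p ≠ 0 := fun h => hne (by rw [hz, h]; funext k; simp)
  have := natDegree_le_of_dvd hd hp0
  rw [hβ.f_natDegree] at this
  omega

theorem ext_coords (hβ : GoodRoot F n β) {x y : Fin n → F} (h1 : ones n F ⬝ᵥ x = ones n F ⬝ᵥ y)
    (h2 : derv n F ⬝ᵥ x = derv n F ⬝ᵥ y) (h3 : pv n β x = pv n β y) : x = y :=
  sub_eq_zero.1 (hβ.ext_zero (by rw [dotProduct_sub, h1, sub_self]) (by rw [dotProduct_sub, h2, sub_self])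
    (by rw [map_sub, h3, sub_self]))

theorem surj (hβ : GoodRoot F n β) (a b : F) (x : K) :
    ∃ z, ones n F ⬝ᵥ z = a ∧ derv n F ⬝ᵥ z = b ∧ pv n β z = x := by
  haveI := hβ.finite
  let L : (Fin n → F) →ₗ[F] F × F × K :=
    (dotProductEquiv F (Fin n) (ones n F)).prod ((dotProductEquiv F (Fin n) (derv n F)).prod (pv n β))
  have hL : ∀ z, L z = (ones n F ⬝ᵥ z, derv n F ⬝ᵥ z, pv n β z) := fun z => rfl
  have hinj : Function.Injective L := by
    intro y z h
    rw [hL, hL, Prod.mk.injEq, Prod.mk.injEq] at h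
    exact hβ.ext_coords h.1 h.2.1 h.2.2
  have hrank : Module.finrank F (Fin n → F) = Module.finrank F (F × F × K) := by
    rw [Module.finrank_fin_fun, Module.finrank_prod, Module.finrank_prod, Module.finrank_self, hβ.rank]
    have := hβ.deg; omega
  obtain ⟨z, hz⟩ := (LinearMap.injective_iff_surjective_of_finrank_eq_finrank hrank).1 hinj (a, b, x)
  rw [hL, Prod.mk.injEq, Prod.mk.injEq] at hz
  exact ⟨z, hz.1, hz.2.1, hz.2.2⟩

theorem cm_coords (hβ : GoodRoot F n β) (z : Fin n → F) :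
    ones n F ⬝ᵥ (cm (fpoly F β) n *ᵥ z) = ones n F ⬝ᵥ z ∧
      derv n F ⬝ᵥ (cm (fpoly F β) n *ᵥ z) = derv n F ⬝ᵥ z + ones n F ⬝ᵥ z ∧
        pv n β (cm (fpoly F β) n *ᵥ z) = β * pv n β z := by
  have key : ∀ i : Fin n,
      ones n F ⬝ᵥ (cm (fpoly F β) n *ᵥ Pi.single i 1) = 1 ∧
        derv n F ⬝ᵥ (cm (fpoly F β) n *ᵥ Pi.single i 1) = (i.val : F) + 1 ∧
          pv n β (cm (fpoly F β) n *ᵥ Pi.single i 1) = β ^ (i.val + 1) := by
    intro i
    by_cases h : i.val + 1 < n
    · rw [cm_single _ i ⟨i.val + 1, h⟩ rfl, pv_single]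
      simp [ones, derv]
    · have hi : i.val + 1 = n := by have := i.isLt; omega
      rw [cm_single_last _ i hi, show (fun k : Fin n => -(fpoly F β).coeff k.val) =
        -(fun k : Fin n => (fpoly F β).coeff k.val) from rfl, dotProduct_neg, dotProduct_neg, map_neg,
        ones_dot_low _ hβ.f_natDegree hβ.f_monic, derv_dot_low _ hβ.f_natDegree hβ.f_monic,
        pv_low β _ hβ.f_natDegree hβ.f_monic]
      have e0 : (fpoly F β).eval 1 = 0 := by simp [fpoly]
      have e1 : (fpoly F β).derivative.eval 1 = 0 := by simp [fpoly, derivative_mul, derivative_pow]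
      have e2 : aeval β (fpoly F β) = 0 := by simp [fpoly]
      rw [e0, e1, e2, hi, show (i.val : F) + 1 = (n : F) by exact_mod_cast congrArg (Nat.cast : ℕ → F) hi]
      refine ⟨by simp, ?_, by simp⟩
      rw [zero_sub, neg_neg]
  have hz : z = ∑ i, z i • (Pi.single i 1 : Fin n → F) := by
    ext k; simp [Finset.sum_apply, Pi.single_apply]
  refine ⟨?_, ?_, ?_⟩
  · conv_lhs => rw [hz]
    rw [mulVec_sum, dotProduct_sum]
    simp only [mulVec_smul, dotProduct_smul, (key _).1, smul_eq_mul]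
    simp [dotProduct, ones]
  · conv_lhs => rw [hz]
    rw [mulVec_sum, dotProduct_sum]
    simp only [mulVec_smul, dotProduct_smul, (key _).2.1, smul_eq_mul]
    simp only [dotProduct, derv, ones, ← Finset.sum_add_distrib]
    refine Finset.sum_congr rfl fun i _ => ?_
    ring
  · conv_lhs => rw [hz]
    rw [mulVec_sum, map_sum, pv_apply, Finset.mul_sum]
    refine Finset.sum_congr rfl fun i _ => ?_
    rw [mulVec_smul, map_smul, (key i).2.2, pow_succ', mul_smul_comm]

theorem cm_wv (hβ : GoodRoot F n β) : cm (fpoly F β) n *ᵥ wv F n β = wv F n β := by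
  obtain ⟨h1, h2, h3⟩ := hβ.cm_coords (wv F n β)
  refine hβ.ext_coords h1 ?_ ?_
  · rw [h2, hβ.ones_wv, add_zero]
  · rw [h3, hβ.pv_wv, mul_zero]

theorem cm_pow_coords (hβ : GoodRoot F n β) (k : ℕ) (z : Fin n → F) :
    ones n F ⬝ᵥ (cm (fpoly F β) n ^ k *ᵥ z) = ones n F ⬝ᵥ z ∧
      derv n F ⬝ᵥ (cm (fpoly F β) n ^ k *ᵥ z) = derv n F ⬝ᵥ z + (k : F) * (ones n F ⬝ᵥ z) ∧
        pv n β (cm (fpoly F β) n ^ k *ᵥ z) = β ^ k * pv n β z := by
  induction k with
  | zero => simp
  | succ k ih =>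
    obtain ⟨h1, h2, h3⟩ := ih
    obtain ⟨g1, g2, g3⟩ := hβ.cm_coords (cm (fpoly F β) n ^ k *ᵥ z)
    rw [pow_succ', ← mulVec_mulVec, g1, g2, g3, h1, h2, h3]
    refine ⟨rfl, ?_, by ring⟩
    push_cast; ring

theorem cm_pow_eq (hβ : GoodRoot F n β) {r : ℕ} (hr : β ^ r = 1) (z : Fin n → F) :
    cm (fpoly F β) n ^ r *ᵥ z =
      z + (ones n F ⬝ᵥ z) • (((r : F) / (minpoly F β).eval 1) • wv F n β) := by
  obtain ⟨h1, h2, h3⟩ := hβ.cm_pow_coords r z
  refine hβ.ext_coords ?_ ?_ ?_
  · rw [h1, dotProduct_add, dotProduct_smul, dotProduct_smul, hβ.ones_wv, smul_zero, smul_zero, add_zero]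
  · rw [h2, dotProduct_add, dotProduct_smul, dotProduct_smul, hβ.derv_wv]
    simp only [smul_eq_mul]
    have := hβ.not_root 1
    field_simp
  · rw [h3, hr, one_mul, map_add, map_smul, map_smul, hβ.pv_wv, smul_zero, smul_zero, add_zero]

end GoodRoot

end Cfsg.Agent.Lib.GenSL
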