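import Cfsg.Agent.Lib.GenSL.SeedUse

/-! The parameters for `n ≥ 5`. -/

set_option autoImplicit false

namespace Cfsg.Agent.Lib.GenSL

open Matrix Polynomial Finset

variable {n : ℕ} {F : Type*} [Field F] {K : Type*} [Field K] [Algebra F K] {β : K}

theorem gco_one (hn : 1 ≤ n) : gco F n 1 = -(n : F) * (-1) ^ n := by
  have h1 : (gpoly F n).derivative.coeff 0 = (gpoly F n).coeff 1 := by
    rw [coeff_derivative]; simp
  rw [gco, ← h1, coeff_zero_eq_eval_zero, gpoly, derivative_pow]
  obtain ⟨m, rfl⟩ : ∃ m, n = m + 1 := ⟨n - 1, by omega⟩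
  simp [pow_succ]; ring

theorem w_top' (hβ : GoodRoot F n β) : (wpoly F β).coeff (n - 1) = 1 := by
  have h1 := hβ.w_natDegree
  have h2 := hβ.w_monic.coeff_natDegree
  rwa [show (wpoly F β).natDegree = n - 1 by omega] at h2

theorem f_pred (hβ : GoodRoot F n β) :
    (fpoly F β).coeff (n - 1) = (wpoly F β).coeff (n - 2) - 1 := by
  have := hβ.two_le; have := hβ.deg
  rw [show n - 1 = n - 2 + 1 by omega, hβ.f_coeff_succ, show n - 2 + 1 = n - 1 by omega, w_top' hβ]

theorem exists_ne_three [Finite F] (h4 : 4 ≤ Nat.card F) (a b c : F) : ∃ x : F, x ≠ a ∧ x ≠ b ∧ x ≠ c := by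
  classical
  haveI := Fintype.ofFinite F
  have h : ({a, b, c} : Finset F).card < (Finset.univ : Finset F).card := by
    rw [Finset.card_univ, ← Nat.card_eq_fintype_card]
    exact lt_of_le_of_lt Finset.card_le_three (by omega)
  obtain ⟨x, _, hx⟩ := Finset.exists_mem_notMem_of_card_lt_card h
  simp only [Finset.mem_insert, Finset.mem_singleton, not_or] at hx
  exact ⟨x, hx⟩

/-- Two generators for `n ≥ 5` and at least four field elements. -/
theorem twoGen_five [Finite F] (h4 : 4 ≤ Nat.card F) (hn : 5 ≤ n) (hβ : GoodRoot F n β)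
    (hgen : ∀ A : Subring K, β ∈ A → A = ⊤) {r : ℕ} (hr : β ^ r = 1) (hr0 : (r : F) ≠ 0) : TwoGen F n := by
  classical
  set σ : F := (-1) ^ n with hσ
  set h1 := (minpoly F β).eval 1
  set g2 := gco F n 2
  obtain ⟨N, hN0, hN1, hN2⟩ := exists_ne_three h4 0 1 ((wpoly F β).coeff (n - 2) + 2 * (n : F) - 3)
  set cc : F := σ * ((n : F) - 2 + N) / N with hcc
  obtain ⟨a, ha1, ha2, ha3⟩ := exists_ne_three h4 (σ * ((n : F) - 1) - g2)
    ((σ - g2 + cc + N * (h1 - σ)) / N) (h1 - cc)
  set c : ℕ → F := fun i => if i = 0 then cc else if i = 1 then a else if i = n - 3 then N - n else 0 with hc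
  set P : ℕ → Fin n → F := fun i => cvec n (gpoly F i) with hP
  have h : Par F n β P := ⟨hβ, fun k => by simp [hP, cvec, gpoly, coeff_one],
    fun i k _ hk => by simp only [hP, cvec, hk, gpoly_coeff_self],
    fun i k _ hk => by simp only [hP, cvec, gpoly_coeff_of_lt hk]⟩
  have hc0 : c 0 = cc := by simp [hc]
  have hc1 : c 1 = a := by simp [hc]
  have hc3 : c (n - 3) = N - n := by simp [hc, show n - 3 ≠ 0 by omega, show n - 3 ≠ 1 by omega]
  have hcmid : ∀ i, 2 ≤ i → i ≠ n - 3 → c i = 0 := fun i h2 h3 => by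
    simp [hc, show i ≠ 0 by omega, show i ≠ 1 by omega, h3]
  have hp : ∀ i, 1 ≤ i → i < n - 2 → pi1 β P c i = 0 := by
    intro i h1' hi
    rw [pi1, h.col_low hi]
    show ones n F ⬝ᵥ (fun k : Fin n => (gpoly F i).coeff k.val) = 0
    rw [ones_dot_coeff _ (by rw [gpoly_natDegree]; omega), gpoly]
    simp [show i ≠ 0 by omega]
  have hd : ∀ i, i < n - 2 → de1 β P c i = if i = 1 then 1 else 0 := by
    intro i hi
    rw [de1, h.col_low hi]
    show derv n F ⬝ᵥ (fun k : Fin n => (gpoly F i).coeff k.val) = _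
    rw [derv_dot_coeff _ (by rw [gpoly_natDegree]; omega), gpoly, derivative_pow]
    rcases i with _ | _ | i <;> simp
  have hdd : ∀ j, j < n - 2 → dd β P c j = -(j : F) := by
    intro j hj
    rw [h.dd_low hj]
    split_ifs with hz
    · simp only [hP, cvec]; rw [gpoly_coeff_pred j hz]
    · simp [show j = 0 by omega]
  have eW : pi1 β P c (n - 2) = σ - cc := by
    rw [h.pi_W, Finset.sum_eq_single 0, h.pi_zero, hc0, mul_one]
    · intro i hi hi0; rw [hp i (by omega) (Finset.mem_range.1 hi), mul_zero]
    · simp; omega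
  have eL : pi1 β P c (n - 1) = -σ + (n : F) * σ + (n : F) * (σ - cc) := by
    rw [h.pi_L, eW, Finset.sum_eq_single 0, h.pi_zero, gco_one (by omega)]
    · ring
    · intro i hi hi0; rw [hp i (by omega) (Finset.mem_range.1 hi), mul_zero]
    · simp; omega
  have dW : de1 β P c (n - 2) = h1 - σ - a := by
    rw [h.de_W, Finset.sum_eq_single 1, hd 1 (by omega), if_pos rfl, hc1, mul_one]
    · intro i hi hi0; rw [hd i (Finset.mem_range.1 hi), if_neg hi0, mul_zero]
    · simp; omega
  have dL : de1 β P c (n - 1) = σ - g2 + (n : F) * (h1 - σ - a) := by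
    rw [h.de_L, dW, Finset.sum_eq_single 1, hd 1 (by omega), if_pos rfl, mul_one]
    · intro i hi hi0; rw [hd i (Finset.mem_range.1 hi), if_neg hi0, mul_zero]
    · simp; omega
  refine h.twoGen hgen hr hr0 (c := c) ?_ ?_ ?_ ?_ (-(σ - cc)) (-(h1 - σ - a)) ?_ ?_ ?_
  · intro l hl
    rcases Nat.lt_or_ge (l + 1) (n - 2) with hl2 | hl2
    · rw [hdd _ hl2, hdd _ (by omega)]; push_cast; ring_nf; simp
    rcases eq_or_ne (l + 1) (n - 2) with e | e
    · rw [e, h.dd_W, hdd l (by omega), hc3]
      intro e0
      refine hN2 ?_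
      have el : (l : F) = (n : F) - 3 := by
        have : l + 3 = n := by omega
        rw [← this]; push_cast; ring
      rw [el] at e0
      linear_combination -e0
    · rw [show l + 1 = n - 1 by omega, show l = n - 2 by omega, h.dd_L, h.dd_W, hc3, f_pred hβ]
      intro e0; exact hN1 (by linear_combination e0)
  · have es : ∑ i ∈ range (n - 2), c i * pi1 β P c (i + 1) = (N - n) * (σ - cc) := by
      rw [Finset.sum_eq_single (n - 3), hc3, show n - 3 + 1 = n - 2 by omega, eW]
      · intro i hi hi0; have := Finset.mem_range.1 hi; rw [hp (i + 1) (by omega) (by omega), mul_zero]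
      · simp; omega
    rw [es, eL, h.pi_zero, ← hσ]
    have : cc * N = σ * ((n : F) - 2 + N) := by rw [hcc, div_mul_cancel₀ _ hN0]
    linear_combination -this
  · rw [eW, hp (n - 3) (by omega) (by omega), gco_one (by omega), hc0, Finset.sum_eq_single 0, Finset.sum_eq_single 0,
      h.pi_zero, hc1]
    · intro e0; exact ha1 (by linear_combination e0)
    · intro i hi hi0; rw [hp i (by omega) (by have := Finset.mem_range.1 hi; omega), mul_zero]
    · simp; omega
    · intro i hi hi0; rw [hp i (by omega) (by have := Finset.mem_range.1 hi; omega), mul_zero]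
    · simp; omega
  · have es : ∑ i ∈ range (n - 2), c i * de1 β P c (i + 1) = cc + (N - n) * (h1 - σ - a) := by
      rw [← Finset.sum_subset (s₁ := {0, n - 3}), Finset.sum_pair (by omega), hc0, hd 1 (by omega), if_pos rfl, hc3,
        show n - 3 + 1 = n - 2 by omega, dW, mul_one]
      · intro i hi; simp at hi; rw [Finset.mem_range]; omega
      · intro i hi hni
        simp at hni
        have := Finset.mem_range.1 hi
        rw [hd (i + 1) (by omega), if_neg (by omega), mul_zero]
    rw [es, dL, h.de_zero, mul_zero, zero_add]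
    intro e0
    refine ha2 ?_
    field_simp
    linear_combination -e0
  · rw [eW, h.pi_zero, hp 1 (by omega) (by omega)]; ring
  · rw [dW, h.de_zero, hd 1 (by omega), if_pos rfl]; ring
  · rw [hp (n - 3) (by omega) (by omega), h.pi_zero]
    intro e0; exact ha3 (by linear_combination e0)

/-- Conjugate generators over a prime field, `n ≥ 5`, given the superdiagonal. -/
theorem conjGen_five (hn : 5 ≤ n) (hβ : GoodRoot F n β) (hgen : ∀ A : Subring K, β ∈ A → A = ⊤)
    (hp' : ∀ x : F, ∃ k : ℕ, (k : F) = x) {r : ℕ} (hr : β ^ r = 1) (hr0 : (r : F) ≠ 0) (s : ℕ → F)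
    (hs0 : ∀ l, l + 1 < n → s l ≠ 0)
    (hsum : ∑ l ∈ range (n - 1), s l = (fpoly F β).coeff (n - 1) + n)
    (k : F) (hk : k ^ n * ((Equiv.Perm.sign (Fin.revPerm : Equiv.Perm (Fin n)) : ℤ) : F) =
      ∏ l ∈ range (n - 1), s l ^ (l + 1))
    (hcase : s 0 ≠ s (n - 2) ∨ s (n - 2) = -1 ∨ 6 ≤ n) : ConjGen F n := by
  classical
  set σ : F := (-1) ^ n with hσ
  set g2 := gco F n 2
  set g3 := gco F n 3
  set d : ℕ → F := fun j => ∑ l ∈ range j, s l with hd
  set N : F := 1 + s (n - 2) with hN
  set π : F := 1 + s 0 with hπ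
  have hs00 : s 0 ≠ 0 := hs0 0 (by omega)
  suffices H : ∃ cc a e : F, (n = 5 → e = N - n) ∧
      (σ * ((n : F) - 2) + cc * π - g2 * π + N * (σ - cc - a * π) = 0 ↔
        ¬ σ * (1 - (n : F)) + g2 + g3 * π + e * π + a * (1 - π) = 0) by
    obtain ⟨cc, a, e, he, hiff⟩ := H
    set c : ℕ → F := fun i => if i = 0 then cc else if i = 1 then a else if i = 2 then e
      else if i = n - 3 then N - n else 0 with hc
    set P : ℕ → Fin n → F := fun i k => if k.val = i then 1 else if k.val + 1 = i then d i
      else if k.val = 0 ∧ 2 ≤ i then -1 - d i else 0 with hP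
    have h : Par F n β P := ⟨hβ, fun k => by simp [hP],
      fun i k _ hk => by simp [hP, hk],
      fun i k _ hk => by simp [hP, show k.val ≠ i by omega, show k.val + 1 ≠ i by omega]; omega⟩
    have hc0 : c 0 = cc := by simp [hc]
    have hc1 : c 1 = a := by simp [hc]
    have hc2 : c 2 = e := by simp [hc]
    have hc3 : c (n - 3) = N - n := by
      rcases eq_or_ne n 5 with h5 | h5
      · rw [show n - 3 = 2 by omega, hc2, he h5]
      · simp [hc, show n - 3 ≠ 0 by omega, show n - 3 ≠ 1 by omega, show n - 3 ≠ 2 by omega]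
    have hp1 : pi1 β P c 1 = π := by
      rw [pi1, h.col_low (by omega), dotProduct,
        ← Finset.sum_subset (s₁ := ({⟨0, by omega⟩, ⟨1, by omega⟩} : Finset (Fin n))) (Finset.subset_univ _),
        Finset.sum_pair (by simp)]
      · simp [hP, ones, hd, hπ]; ring
      · intro i _ hi
        simp [Fin.ext_iff] at hi
        simp [hP, ones, hi, show i.val ≠ 1 by omega]
    have hp : ∀ i, 2 ≤ i → i < n - 2 → pi1 β P c i = 0 := by
      intro i h2 hi
      rw [pi1, h.col_low hi, dotProduct, ← Finset.sum_subset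
        (s₁ := ({⟨0, by omega⟩, ⟨i - 1, by omega⟩, ⟨i, by omega⟩} : Finset (Fin n))) (Finset.subset_univ _),
        Finset.sum_insert (by simp [Fin.ext_iff]; omega), Finset.sum_pair (by simp [Fin.ext_iff]; omega)]
      · simp [hP, ones, show ¬ i = 0 by omega, show (0 : ℕ) ≠ i by omega, show (1 : ℕ) ≠ i by omega,
          show i - 1 ≠ i by omega, show i - 1 + 1 = i by omega, h2]
        ring
      · intro j _ hj
        simp [Fin.ext_iff] at hj
        simp [hP, ones, show j.val ≠ i by omega, show j.val + 1 ≠ i by omega, hj.1]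
    have hdd : ∀ j, j < n → dd β P c j = d j := by
      intro j hj
      rcases Nat.lt_or_ge j (n - 2) with hj2 | hj2
      · rw [h.dd_low hj2]
        split_ifs with hz
        · simp [hP, show j - 1 ≠ j by omega, show j - 1 + 1 = j by omega]
        · simp [hd, show j = 0 by omega]
      have e1 : d (n - 1) = d (n - 2) + s (n - 2) := by
        simp only [hd]; rw [show n - 1 = n - 2 + 1 by omega, Finset.sum_range_succ]
      rcases eq_or_ne j (n - 2) with e0 | e0
      · rw [e0, h.dd_W, hc3]
        have e2 : d (n - 1) = (wpoly F β).coeff (n - 2) - 1 + n := by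
          simp only [hd]; rw [hsum, f_pred hβ]
        linear_combination e1 - e2 - hN
      · rw [show j = n - 1 by omega, h.dd_L]
        exact hsum.symm
    have eW : pi1 β P c (n - 2) = σ - cc - a * π := by
      rw [h.pi_W, ← Finset.sum_subset (s₁ := {0, 1}), Finset.sum_pair (by omega), h.pi_zero, hp1, hc0, hc1, mul_one,
        sub_sub]
      · intro i hi; simp at hi; rw [Finset.mem_range]; omega
      · intro i hi hni
        simp at hni
        rw [hp i (by omega) (Finset.mem_range.1 hi), mul_zero]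
    refine h.conjGen hgen hp' hr hr0 (c := c) s ?_ hs0 k hk ?_
    · intro l hl
      rw [hdd _ hl, hdd _ (by omega)]
      simp only [hd, Finset.sum_range_succ]; ring
    · have eL : pi1 β P c (n - 1) = -σ + (n : F) * σ - g2 * π + (n : F) * (σ - cc - a * π) := by
        rw [h.pi_L, eW, ← Finset.sum_subset (s₁ := {0, 1}), Finset.sum_pair (by omega), h.pi_zero, hp1,
          gco_one (by omega)]
        · ring
        · intro i hi; simp at hi; rw [Finset.mem_range]; omega
        · intro i hi hni
          simp at hni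
          rw [hp i (by omega) (Finset.mem_range.1 hi), mul_zero]
      have es : ∑ i ∈ range (n - 2), c i * pi1 β P c (i + 1) = cc * π + (N - n) * (σ - cc - a * π) := by
        rw [← Finset.sum_subset (s₁ := {0, n - 3}), Finset.sum_pair (by omega), hp1, hc0, hc3,
          show n - 3 + 1 = n - 2 by omega, eW]
        · intro i hi; simp at hi; rw [Finset.mem_range]; omega
        · intro i hi hni
          simp at hni
          have := Finset.mem_range.1 hi
          rw [hp (i + 1) (by omega) (by omega), mul_zero]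
      have eg : ∑ j ∈ range (n - 2), gco F n (j + 2) * pi1 β P c j = g2 + g3 * π := by
        rw [← Finset.sum_subset (s₁ := {0, 1}), Finset.sum_pair (by omega), h.pi_zero, hp1, mul_one]
        · intro i hi; simp at hi; rw [Finset.mem_range]; omega
        · intro i hi hni
          simp at hni
          rw [hp i (by omega) (Finset.mem_range.1 hi), mul_zero]
      have ec : ∑ i ∈ range (n - 3), c (i + 1) * pi1 β P c i = a + e * π := by
        rw [← Finset.sum_subset (s₁ := {0, 1}), Finset.sum_pair (by omega), h.pi_zero, hp1, hc1, hc2, mul_one]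
        · intro i hi; simp at hi; rw [Finset.mem_range]; omega
        · intro i hi hni
          simp at hni
          have := Finset.mem_range.1 hi
          rw [hp i (by omega) (by omega), mul_zero]
      rw [es, eL, eg, ec, eW, hp (n - 3) (by omega) (by omega), gco_one (by omega), hc0, h.pi_zero, ← hσ]
      convert hiff using 2 <;> ring_nf
  have hρ : ∀ e a0 : F, ∃ a : F, σ * (1 - (n : F)) + g2 + g3 * π + e * π + a * (1 - π) = a0 := fun e a0 =>
    ⟨(a0 - (σ * (1 - (n : F)) + g2 + g3 * π + e * π)) / (1 - π), by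
      rw [div_mul_cancel₀ _ (by rw [hπ]; intro e0; exact hs00 (by linear_combination -e0))]; ring⟩
  by_cases hA : π = N
  · by_cases hN0 : N = 0
    · have hπ0 : π = 0 := hA.trans hN0
      by_cases ht : σ * ((n : F) - 2) = 0
      · obtain ⟨a, ha⟩ := hρ (N - n) 1
        refine ⟨0, a, N - n, fun _ => rfl, iff_of_true ?_ (by rw [ha]; exact one_ne_zero)⟩
        rw [ht, hπ0, hN0]; ring
      · obtain ⟨a, ha⟩ := hρ (N - n) 0
        refine ⟨0, a, N - n, fun _ => rfl, iff_of_false ?_ (fun hne => hne ha)⟩
        rw [hπ0, hN0]; intro e0; exact ht (by linear_combination e0)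
    · have h6 : 6 ≤ n := by
        rcases hcase with hc | hc | hc
        · exact absurd (by linear_combination hA) hc
        · exact absurd (by rw [hN, hc, add_neg_cancel]) hN0
        · exact hc
      have hπ0 : π ≠ 0 := hA.symm ▸ hN0
      set a : F := (σ * ((n : F) - 2) - g2 * π + N * σ) / (N * π) with ha
      have ha' : a * (N * π) = σ * ((n : F) - 2) - g2 * π + N * σ := div_mul_cancel₀ _ (mul_ne_zero hN0 hπ0)
      refine ⟨0, a, (1 - (σ * (1 - (n : F)) + g2 + g3 * π + a * (1 - π))) / π, fun h5 => by omega, iff_of_true ?_ ?_⟩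
      · linear_combination -ha'
      · rw [div_mul_cancel₀ _ hπ0]
        intro e0; exact one_ne_zero (α := F) (by linear_combination e0)
  · obtain ⟨a, ha⟩ := hρ (N - n) 1
    refine ⟨(-(σ * ((n : F) - 2)) + g2 * π - N * σ + N * (a * π)) / (π - N), a, N - n, fun _ => rfl,
      iff_of_true ?_ (by rw [ha]; exact one_ne_zero)⟩
    have : π - N ≠ 0 := sub_ne_zero.2 hA
    field_simp
    ring

end Cfsg.Agent.Lib.GenSL
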