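import Cfsg.Agent.Lib.GenSL.Five

/-! The parameters for `n = 4`. -/

set_option autoImplicit false

namespace Cfsg.Agent.Lib.GenSL

open Matrix Polynomial Finset

variable {F : Type*} [Field F] {K : Type*} [Field K] [Algebra F K] {β : K}

theorem gco_four : gco F 4 1 = -4 ∧ gco F 4 2 = 6 ∧ gco F 4 3 = -4 := by
  have e : gpoly F 4 = X ^ 4 - C 4 * X ^ 3 + C 6 * X ^ 2 - C 4 * X + 1 := by
    rw [gpoly, C_1]
    simp only [map_ofNat]
    ring
  refine ⟨?_, ?_, ?_⟩ <;>
    simp only [gco, e, coeff_add, coeff_sub, coeff_C_mul, coeff_X_pow, coeff_X, coeff_one] <;> norm_num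

/-- The quantity `T = -h(1)`. -/
noncomputable def tOf (F : Type*) [Field F] {K : Type*} [Field K] [Algebra F K] (β : K) : F :=
  -(minpoly F β).eval 1

theorem w_four (hβ : GoodRoot F 4 β) :
    (wpoly F β).coeff 1 = tOf F β + 3 ∧ (wpoly F β).coeff 2 = -(tOf F β) - 3 ∧
      (fpoly F β).coeff 3 = -(tOf F β) - 4 := by
  have hd : (minpoly F β).natDegree = 2 := by have := hβ.deg; omega
  have h2 : (minpoly F β).coeff 2 = 1 := hd ▸ hβ.monic.coeff_natDegree
  have h0 : (minpoly F β).coeff 0 = 1 := by rw [hβ.coeff_zero]; norm_num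
  have h3 : (minpoly F β).coeff 3 = 0 := coeff_eq_zero_of_natDegree_lt (by omega)
  have he : (minpoly F β).eval 1 = 2 + (minpoly F β).coeff 1 := by
    rw [eval_eq_sum_range, hd]
    simp [Finset.sum_range_succ, h0, h2]
    ring
  have hw : ∀ k, (wpoly F β).coeff (k + 1) = (minpoly F β).coeff k - (minpoly F β).coeff (k + 1) := fun k => by
    rw [wpoly, sub_mul, coeff_sub, coeff_X_mul, C_1, one_mul]
  have e1 := hw 0
  have e2 := hw 1
  have e3 := hw 2
  norm_num at e1 e2 e3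
  have ef := hβ.f_coeff_succ 2
  norm_num at ef
  rw [ef, e1, e2, e3, h0, h2, h3, tOf, he]
  refine ⟨?_, ?_, ?_⟩ <;> ring

/-- The columns for `n = 4`. -/
noncomputable def P4 (F : Type*) [Field F] (d : F) : ℕ → Fin 4 → F :=
  fun i => if i = 0 then ![1, 0, 0, 0] else ![d, 1, 0, 0]

/-- The coefficients for `n = 4`. -/
def c4 {F : Type*} (cc c1 : F) : ℕ → F := fun i => if i = 0 then cc else c1

theorem par4 (hβ : GoodRoot F 4 β) (d : F) : Par F 4 β (P4 F d) := by
  refine ⟨hβ, ?_, ?_, ?_⟩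
  · intro k; fin_cases k <;> simp [P4]
  · intro i k hi hk
    rcases (show i = 0 ∨ i = 1 by omega) with rfl | rfl <;> fin_cases k <;> simp_all [P4]
  · intro i k hi hk
    rcases (show i = 0 ∨ i = 1 by omega) with rfl | rfl <;> fin_cases k <;> simp_all [P4]

theorem vals4 (hβ : GoodRoot F 4 β) (d cc c1 : F) :
    let c := c4 cc c1
    let P := P4 F d
    let p2 := 1 - cc - c1 * (1 + d)
    let d2 := -(tOf F β) - 1 - c1
    pi1 β P c 1 = 1 + d ∧ pi1 β P c 2 = p2 ∧ pi1 β P c 3 = 3 - 6 * (1 + d) + 4 * p2 ∧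
      de1 β P c 1 = 1 ∧ de1 β P c 2 = d2 ∧ de1 β P c 3 = -5 + 4 * d2 ∧
        dd β P c 0 = 0 ∧ dd β P c 1 = d ∧ dd β P c 2 = -(tOf F β) - 3 - c1 ∧ dd β P c 3 = -(tOf F β) := by
  intro c P p2 d2
  have h := par4 hβ d
  obtain ⟨g1, g2, g3⟩ := gco_four (F := F)
  have e1 : pi1 β P c 1 = 1 + d := by
    rw [pi1, h.col_low (by norm_num)]
    simp [P, P4, ones, dotProduct, Fin.sum_univ_four, add_comm]
  have f1 : de1 β P c 1 = 1 := by
    rw [de1, h.col_low (by norm_num)]
    simp [P, P4, derv, dotProduct, Fin.sum_univ_four]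
  have e2 : pi1 β P c 2 = p2 := by
    have := h.pi_W (c := c)
    norm_num [Finset.sum_range_succ] at this
    rw [this, e1, h.pi_zero]
    simp [c, c4, p2]; ring
  have f2 : de1 β P c 2 = d2 := by
    have := h.de_W (c := c)
    norm_num [Finset.sum_range_succ] at this
    rw [this, f1, h.de_zero]
    simp [c, c4, d2, tOf]
  refine ⟨e1, e2, ?_, f1, f2, ?_, ?_, ?_, ?_, ?_⟩
  · have := h.pi_L (c := c)
    norm_num [Finset.sum_range_succ] at this
    rw [this, e2, e1, h.pi_zero, g1, g2]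
    ring
  · have := h.de_L (c := c)
    norm_num [Finset.sum_range_succ] at this
    rw [this, f2, f1, h.de_zero, g2]
    ring
  · rw [h.dd_low (by norm_num), dif_neg (by norm_num)]
  · rw [h.dd_low (by norm_num), dif_pos le_rfl]
    simp [P, P4]
  · have := h.dd_W (c := c)
    norm_num at this
    rw [this, (w_four hβ).2.1]
    simp [c, c4]
  · have := h.dd_L (c := c)
    norm_num at this
    rw [this, (w_four hβ).2.2]
    ring

theorem tOf_ne_zero (hβ : GoodRoot F 4 β) : tOf F β ≠ 0 := neg_ne_zero.2 (hβ.not_root 1)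

/-- Two generators for `n = 4` and at least four field elements. -/
theorem twoGen_four [Finite F] (h4 : 4 ≤ Nat.card F) (hβ : GoodRoot F 4 β)
    (hgen : ∀ A : Subring K, β ∈ A → A = ⊤) {r : ℕ} (hr : β ^ r = 1) (hr0 : (r : F) ≠ 0) : TwoGen F 4 := by
  set T := tOf F β with hT
  have hT0 : T ≠ 0 := tOf_ne_zero hβ
  obtain ⟨d, hd0, hd1, hdT⟩ := exists_ne_three h4 0 1 (-T)
  have hdT' : d + T ≠ 0 := fun e => hdT (by linear_combination e)
  set cc : F := (3 * T + T ^ 2 + d * (3 + 2 * T + T ^ 2)) / (d + T) with hcc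
  have hc : cc * (d + T) = 3 * T + T ^ 2 + d * (3 + 2 * T + T ^ 2) := div_mul_cancel₀ _ hdT'
  set c1 : F := -T - 3 with hc1
  obtain ⟨p1, p2, p3, q1, q2, q3, d0, dd1, dd2, dd3⟩ := vals4 hβ d cc c1
  have h := par4 hβ d
  obtain ⟨g1, g2, g3⟩ := gco_four (F := F)
  rw [← hT] at q2 q3 dd2 dd3
  refine h.twoGen hgen hr hr0 (c := c4 cc c1) ?_ ?_ ?_ ?_
    (-(1 - cc - c1 * (1 + d) - (-T - 1 - c1) * (1 + d))) (-(-T - 1 - c1)) ?_ ?_ ?_
  · intro l hl
    rcases (show l = 0 ∨ l = 1 ∨ l = 2 by omega) with rfl | rfl | rfl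
    · rw [dd1, d0, sub_zero]; exact hd0
    · rw [dd2, dd1]; intro e; exact hd0 (by linear_combination -e)
    · rw [dd3, dd2]; intro e; exact hT0 (by linear_combination -e)
  all_goals norm_num [Finset.sum_range_succ, c4]
  · rw [h.pi_zero, p3, p1, p2]
    linear_combination hc
  · rw [h.pi_zero, p1, p2, g1, g2, g3]
    intro e
    refine mul_ne_zero hT0 hd0 ?_
    linear_combination e
  · rw [h.de_zero, q3, q1, q2]
    intro e
    refine mul_ne_zero (pow_ne_zero 2 hT0) (sub_ne_zero.2 hd1) ?_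
    linear_combination (d + T) * e - hc
  · rw [h.pi_zero, p2, p1]; ring
  · rw [h.de_zero, q2, q1]; ring
  · rw [h.pi_zero, p1]
    intro e
    refine mul_ne_zero (mul_ne_zero hT0 hd0) (sub_ne_zero.2 (Ne.symm hd1)) ?_
    linear_combination (d + T) * e - hc

theorem sign_rev_four : ((Equiv.Perm.sign (Fin.revPerm : Equiv.Perm (Fin 4)) : ℤ) : F) = 1 := by
  rw [show Equiv.Perm.sign (Fin.revPerm : Equiv.Perm (Fin 4)) = 1 by decide]; simp

/-- Conjugate generators over a prime field for `n = 4`. -/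
theorem conjGen_four (hβ : GoodRoot F 4 β) (hgen : ∀ A : Subring K, β ∈ A → A = ⊤)
    (hp' : ∀ x : F, ∃ k : ℕ, (k : F) = x) {r : ℕ} (hr : β ^ r = 1) (hr0 : (r : F) ≠ 0) (y : F) (hy : y ≠ 0)
    (hcase : y ^ 4 / tOf F β ≠ tOf F β ∨ (2 : F) = 0) : ConjGen F 4 := by
  set T := tOf F β with hT
  have hT0 : T ≠ 0 := tOf_ne_zero hβ
  set x : F := y ^ 4 / T with hx
  have hxT : x * T = y ^ 4 := div_mul_cancel₀ _ hT0
  have hx0 : x ≠ 0 := div_ne_zero (pow_ne_zero _ hy) hT0
  set c1 : F := -3 - x with hc1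
  set K0 : F := 2 - 6 * (1 - T) + (4 + c1) * (1 - c1 * (1 - T)) with hK0
  suffices H : ∃ cc : F, K0 + cc * (x - T) = 0 by
    obtain ⟨cc, hcc⟩ := H
    obtain ⟨p1, p2, p3, q1, q2, q3, d0, dd1, dd2, dd3⟩ := vals4 hβ (-T) cc c1
    have h := par4 hβ (-T)
    obtain ⟨g1, g2, g3⟩ := gco_four (F := F)
    rw [← hT] at dd2 dd3
    refine h.conjGen hgen hp' hr hr0 (c := c4 cc c1)
      (fun l => if l = 0 then -T else if l = 1 then x else -x) ?_ ?_ (y ^ 5 / T) ?_ ?_
    · intro l hl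
      rcases (show l = 0 ∨ l = 1 ∨ l = 2 by omega) with rfl | rfl | rfl
      · rw [dd1, d0, sub_zero]; simp
      · rw [dd2, dd1, hc1]; simp; ring
      · rw [dd3, dd2, hc1]; simp; ring
    · intro l hl
      rcases (show l = 0 ∨ l = 1 ∨ l = 2 by omega) with rfl | rfl | rfl <;> simp [hT0, hx0]
    · rw [sign_rev_four]
      simp only [Finset.prod_range_succ, Finset.prod_range_zero]
      norm_num
      rw [hx]
      field_simp
    · norm_num [Finset.sum_range_succ, c4]
      rw [h.pi_zero, p3, p1, p2, g1, g2, g3]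
      refine iff_of_true (by rw [hK0] at hcc; linear_combination hcc) ?_
      intro e
      exact mul_ne_zero hx0 hT0 (by rw [hc1] at e; linear_combination -e)
  by_cases hxT' : x = T
  · have h2 : (2 : F) = 0 := hcase.resolve_left (fun hne => hne hxT')
    refine ⟨0, ?_⟩
    have hx1 : T = 1 := by
      obtain ⟨k, hk⟩ := hp' T
      rcases Nat.even_or_odd k with ⟨j, rfl⟩ | ⟨j, rfl⟩
      · exfalso; exact hT0 (by rw [← hk]; push_cast; linear_combination (j : F) * h2)
      · rw [← hk]; push_cast; linear_combination (j : F) * h2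
    rw [hK0, hc1, hxT', hx1]
    linear_combination h2
  · exact ⟨-K0 / (x - T), by rw [div_mul_cancel₀ _ (sub_ne_zero.2 hxT')]; ring⟩

end Cfsg.Agent.Lib.GenSL
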