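import Cfsg.Agent.Lib.GenSL.Companion
import Mathlib.FieldTheory.Finite.Extension
import Mathlib.FieldTheory.Galois.NormalBasis
import Mathlib.RingTheory.Norm.Basic
import Mathlib.RingTheory.Trace.Basic

/-! Elements of norm one or of nonzero trace which generate a finite field extension. -/

set_option autoImplicit false

namespace Cfsg.Agent.Lib.GenSL

open Polynomial

variable {F : Type*} [Field F] {K : Type*} [Field K] [Algebra F K] [FiniteDimensional F K]

theorem natDegree_of_adjoin_top {β : K} (h : Algebra.adjoin F ({β} : Set K) = ⊤) :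
    (minpoly F β).natDegree = Module.finrank F K := by
  let pb := PowerBasis.ofAdjoinEqTop (IsIntegral.of_finite F β) h
  rw [pb.finrank, ← pb.natDegree_minpoly]
  rfl

theorem norm_of_adjoin_top {β : K} (h : Algebra.adjoin F ({β} : Set K) = ⊤) :
    Algebra.norm F β = (-1) ^ Module.finrank F K * (minpoly F β).coeff 0 := by
  let pb := PowerBasis.ofAdjoinEqTop (IsIntegral.of_finite F β) h
  have h1 := Algebra.PowerBasis.norm_gen_eq_coeff_zero_minpoly pb
  rw [← pb.finrank] at h1
  exact h1

theorem trace_of_adjoin_top {β : K} (h : Algebra.adjoin F ({β} : Set K) = ⊤) :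
    Algebra.trace F K β = -(minpoly F β).nextCoeff := by
  let pb := PowerBasis.ofAdjoinEqTop (IsIntegral.of_finite F β) h
  exact pb.trace_gen_eq_nextCoeff_minpoly

omit [FiniteDimensional F K] in
theorem adjoin_top_of_gen {β : K} (h : ∀ A : Subring K, β ∈ A → A = ⊤) :
    Algebra.adjoin F ({β} : Set K) = ⊤ := by
  have h1 := h (Algebra.adjoin F ({β} : Set K)).toSubring (Algebra.self_mem_adjoin_singleton F β)
  refine eq_top_iff.2 fun x _ => ?_
  show x ∈ (Algebra.adjoin F ({β} : Set K)).toSubring
  rw [h1]
  exact Subring.mem_top x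

omit [FiniteDimensional F K] in
/-- Over a prime field, generation as an algebra is generation as a ring. -/
theorem gen_of_adjoin_top {β : K} (hp : ∀ x : F, ∃ k : ℕ, (k : F) = x)
    (h : Algebra.adjoin F ({β} : Set K) = ⊤) : ∀ A : Subring K, β ∈ A → A = ⊤ := by
  intro A hA
  let A' : Subalgebra F K :=
    { A.toSubsemiring with
      algebraMap_mem' := fun x => by
        obtain ⟨k, rfl⟩ := hp x
        rw [map_natCast]
        exact natCast_mem A k }
  have h1 : Algebra.adjoin F ({β} : Set K) ≤ A' := Algebra.adjoin_le (Set.singleton_subset_iff.2 hA)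
  refine eq_top_iff.2 fun x _ => ?_
  exact h1 (h ▸ Algebra.mem_top)

/-- A norm-one element generating the field. -/
theorem exists_norm_one [Finite F] (hm : 2 ≤ Module.finrank F K) :
    ∃ β : K, Algebra.norm F β = 1 ∧ ∀ A : Subring K, β ∈ A → A = ⊤ := by
  classical
  haveI : Finite K := Module.finite_of_finite F
  obtain ⟨γ, hγ⟩ := IsCyclic.exists_ofOrder_eq_natCard (α := Kˣ)
  set q := Nat.card F with hq
  set m := Module.finrank F K with hm'
  have hK : Nat.card K = q ^ m := Module.natCard_eq_pow_finrank
  have hq2 : 2 ≤ q := Finite.one_lt_card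
  have hγ' : orderOf γ = q ^ m - 1 := by rw [hγ, Nat.card_units, hK]
  refine ⟨((γ ^ (q - 1) : Kˣ) : K), ?_, fun A hA => ?_⟩
  · haveI := Fintype.ofFinite F
    rw [Units.val_pow_eq_pow_val, map_pow, hq, Nat.card_eq_fintype_card]
    exact FiniteField.pow_card_sub_one_eq_one _ (Algebra.norm_ne_zero_iff.2 γ.ne_zero)
  · by_contra hne
    haveI : Finite A := Subtype.finite
    haveI : Fintype A := Fintype.ofFinite A
    letI := Fintype.fieldOfDomain A
    set β : A := ⟨((γ ^ (q - 1) : Kˣ) : K), hA⟩
    have hβ0 : β ≠ 0 := fun h => (γ ^ (q - 1)).ne_zero (congrArg Subtype.val h)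
    have hcardA : (γ : K) ^ ((q - 1) * (Nat.card A - 1)) = 1 := by
      have h1 := FiniteField.pow_card_sub_one_eq_one β hβ0
      have h2 := congrArg Subtype.val h1
      simp only [SubmonoidClass.coe_pow, OneMemClass.coe_one] at h2
      rw [pow_mul, Nat.card_eq_fintype_card, ← Units.val_pow_eq_pow_val]
      exact h2
    have hdvd : q ^ m - 1 ∣ (q - 1) * (Nat.card A - 1) := by
      rw [← hγ', orderOf_dvd_iff_pow_eq_one, ← Units.val_eq_one, Units.val_pow_eq_pow_val]
      exact hcardA
    have hA2 : 2 ≤ Nat.card A := Finite.one_lt_card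
    have hle := Nat.le_of_dvd (Nat.mul_pos (by omega) (by omega)) hdvd
    have hdim : 2 ≤ Module.finrank A K := by
      have hpos : 0 < Module.finrank A K := Module.finrank_pos
      by_contra hlt
      have e := Module.natCard_eq_pow_finrank (K := A) (V := K)
      rw [show Module.finrank A K = 1 by omega, pow_one] at e
      have : Function.Surjective ((↑) : A → K) :=
        (Function.Injective.bijective_of_nat_card_le Subtype.val_injective e.le).2
      refine hne (eq_top_iff.2 fun x _ => ?_)
      obtain ⟨y, hy⟩ := this x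
      exact hy ▸ y.2
    have e := Module.natCard_eq_pow_finrank (K := A) (V := K)
    have hsq : Nat.card A * Nat.card A ≤ q ^ m := by
      rw [← hK, e, ← pow_two]
      exact Nat.pow_le_pow_right (by omega) hdim
    obtain ⟨k, hk⟩ : ∃ k, m = k + 2 := ⟨m - 2, by omega⟩
    rw [hk] at hle hsq
    have h1 : Nat.card A ≤ q ^ (k + 1) := by
      by_contra hlt
      have h2 : q ^ (k + 1) * q ^ (k + 1) < Nat.card A * Nat.card A := Nat.mul_lt_mul'' (by omega) (by omega)
      have h3 : q ^ (k + 2) ≤ q ^ (k + 1) * q ^ (k + 1) := by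
        rw [← pow_add]; exact Nat.pow_le_pow_right (by omega) (by omega)
      omega
    have h3 : (q - 1) * (Nat.card A - 1) ≤ (q - 1) * (q ^ (k + 1) - 1) := Nat.mul_le_mul_left _ (by omega)
    have h4 : (q - 1) * (q ^ (k + 1) - 1) + q ^ (k + 1) ≤ q ^ (k + 2) - 1 + 1 := by
      obtain ⟨a, ha⟩ : ∃ a, q = a + 1 := ⟨q - 1, by omega⟩
      obtain ⟨b, hb⟩ : ∃ b, q ^ (k + 1) = b + 1 := ⟨q ^ (k + 1) - 1, by have := Nat.one_le_pow (k+1) q (by omega); omega⟩
      rw [show q ^ (k + 2) = q ^ (k + 1) * q from pow_succ q (k + 1), hb, ha]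
      simp only [Nat.add_sub_cancel]
      have : (b + 1) * (a + 1) = a * b + a + b + 1 := by ring
      rw [this]
      omega
    have h5 : 2 ≤ q ^ (k + 1) := le_trans hq2 (Nat.le_self_pow (by omega) q)
    omega

/-- An element of nonzero trace generating the field. -/
theorem exists_trace_ne_zero [Finite F] :
    ∃ β : K, Algebra.trace F K β ≠ 0 ∧ Algebra.adjoin F ({β} : Set K) = ⊤ := by
  classical
  haveI : Finite K := Module.finite_of_finite F
  haveI : IsGalois F K := inferInstance
  obtain ⟨x, hx⟩ := exists_linearIndependent_algEquiv_apply F K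
  refine ⟨x, ?_, ?_⟩
  · intro h0
    have h1 := trace_eq_sum_automorphisms (K := F) (L := K) x
    rw [h0, map_zero] at h1
    have h2 := Fintype.linearIndependent_iff.1 hx (fun _ => 1) (by simpa using h1.symm) 1
    exact one_ne_zero h2
  · have hint : IsIntegral F x := IsIntegral.of_finite F x
    rw [← IntermediateField.adjoin_simple_toSubalgebra_of_isAlgebraic hint.isAlgebraic]
    have : IntermediateField.adjoin F ({x} : Set K) = ⊤ := by
      set E := IntermediateField.adjoin F ({x} : Set K)
      rw [← IsGalois.fixedField_fixingSubgroup E]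
      have : E.fixingSubgroup = ⊥ := by
        refine eq_bot_iff.2 fun σ hσ => ?_
        have h1 : σ x = (1 : Gal(K/F)) x := by
          rw [AlgEquiv.one_apply]
          exact (IntermediateField.mem_fixingSubgroup_iff _ _).1 hσ x (IntermediateField.mem_adjoin_simple_self F x)
        exact Subgroup.mem_bot.2 (hx.injective h1)
      rw [this, IntermediateField.fixedField_bot]
    rw [this, IntermediateField.top_toSubalgebra]

theorem goodRoot {n : ℕ} {β : K} (hm : Module.finrank F K + 2 = n) (h2 : 2 ≤ Module.finrank F K)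
    (h : Algebra.adjoin F ({β} : Set K) = ⊤) (h0 : (minpoly F β).coeff 0 = (-1) ^ n) : GoodRoot F n β := by
  have hd := natDegree_of_adjoin_top h
  exact ⟨by omega, by omega, hd.symm, h0⟩

theorem coeff_zero_of_norm {n : ℕ} {β : K} (hm : Module.finrank F K + 2 = n)
    (h : Algebra.adjoin F ({β} : Set K) = ⊤) (hN : Algebra.norm F β = 1) :
    (minpoly F β).coeff 0 = (-1) ^ n := by
  have h1 := norm_of_adjoin_top h
  rw [hN] at h1
  have h2 : ((-1 : F) ^ Module.finrank F K) * (-1) ^ Module.finrank F K = 1 := by
    rw [← pow_add, ← two_mul, pow_mul]; simp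
  rw [← hm, pow_add, neg_one_sq, mul_one]
  calc (minpoly F β).coeff 0 = ((-1 : F) ^ Module.finrank F K * (-1) ^ Module.finrank F K) * (minpoly F β).coeff 0 := by
        rw [h2, one_mul]
    _ = _ := by rw [mul_assoc, ← h1, mul_one]

end Cfsg.Agent.Lib.GenSL
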