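import Cfsg.Agent.Lib.GenSL.Bidiag
import Cfsg.Agent.Lib.AutPSL.Gen

/-! The regular unipotent Jordan block in SL_n and generation of SL_n by three conjugates of it. -/

set_option autoImplicit false

namespace Cfsg.Agent.Lib.GenSL

open Matrix Cfsg.Agent.Lib.Subspaces.Transvection

variable {n : ℕ} {F : Type*} [Field F]

/-- The nilpotent Jordan block. -/
def shiftMat (n : ℕ) (F : Type*) [Field F] : Matrix (Fin n) (Fin n) F :=
  Matrix.of fun i j => if i.val + 1 = j.val then 1 else 0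

theorem shiftMat_pow (k : ℕ) (i j : Fin n) :
    (shiftMat n F ^ k) i j = if i.val + k = j.val then 1 else 0 := by
  induction k generalizing i j with
  | zero => simp [Matrix.one_apply, Fin.ext_iff]
  | succ k ih =>
    rw [pow_succ, Matrix.mul_apply]
    by_cases h : i.val + (k + 1) = j.val
    · rw [if_pos h, Finset.sum_eq_single ⟨i.val + k, by omega⟩]
      · rw [ih]; simp [shiftMat]; omega
      · intro b _ hb
        rw [ih, if_neg (fun e => hb (Fin.ext e.symm)), zero_mul]
      · simp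
    · rw [if_neg h]
      refine Finset.sum_eq_zero fun b _ => ?_
      rw [ih]
      by_cases hb : i.val + k = b.val
      · simp [shiftMat]; omega
      · rw [if_neg hb, zero_mul]

/-- The regular unipotent Jordan block in SL_n. -/
def jordanSL (n : ℕ) (F : Type*) [Field F] : Matrix.SpecialLinearGroup (Fin n) F :=
  ⟨1 + shiftMat n F, by
    rw [Matrix.det_of_isUpperTriangular]
    · refine Finset.prod_eq_one fun i _ => ?_
      simp [shiftMat]
    · intro i j hij
      simp only [id] at hij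
      simp [shiftMat, Matrix.one_apply, Fin.ext_iff, show i.val ≠ j.val from fun h => absurd (Fin.ext h) hij.ne',
        show i.val + 1 ≠ j.val by have := Fin.lt_def.1 hij; omega]⟩

theorem coe_jordanSL : ((jordanSL n F : Matrix.SpecialLinearGroup (Fin n) F) : Matrix (Fin n) (Fin n) F) =
    1 + shiftMat n F := rfl

theorem jordanSL_regular (hn : 1 ≤ n) :
    IsNilpotent (((jordanSL n F : Matrix.SpecialLinearGroup (Fin n) F) : Matrix (Fin n) (Fin n) F) - 1) ∧
      (((jordanSL n F : Matrix.SpecialLinearGroup (Fin n) F) : Matrix (Fin n) (Fin n) F) - 1) ^ (n - 1) ≠ 0 := by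
  rw [coe_jordanSL, add_sub_cancel_left]
  refine ⟨⟨n, ?_⟩, fun h => ?_⟩
  · ext i j; rw [shiftMat_pow, if_neg (by omega)]; rfl
  · have := congrFun (congrFun h ⟨0, hn⟩) ⟨n - 1, by omega⟩
    simp [shiftMat_pow] at this

/-- The reversal of the basis, with a sign correction. -/
noncomputable def revSL (n : ℕ) (F : Type*) [Field F] (σ : Fin n → F)
    (hσ : ((Equiv.Perm.sign (Fin.revPerm : Equiv.Perm (Fin n)) : ℤ) : F) * ∏ i, σ i = 1) :
    Matrix.SpecialLinearGroup (Fin n) F :=
  ⟨(Matrix.diagonal σ).submatrix Fin.revPerm id, by rw [Matrix.det_permute, Matrix.det_diagonal]; exact hσ⟩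

/-- `SL_n(F)` is generated by three conjugates of the Jordan block, `n ≥ 3`. -/
theorem exists_three_conjugates [Fintype F] (hn : 3 ≤ n) :
    ∃ g h : Matrix.SpecialLinearGroup (Fin n) F,
      Subgroup.closure ({jordanSL n F, g * jordanSL n F * g⁻¹, h * jordanSL n F * h⁻¹} :
        Set (Matrix.SpecialLinearGroup (Fin n) F)) = ⊤ := by
  classical
  let e : Fin n → Fin n → F := fun i => Pi.single i 1
  have he : ∀ i, e i = Pi.single i 1 := fun _ => rfl
  set o : Fin n := ⟨0, by omega⟩ with ho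
  set o1 : Fin n := ⟨1, by omega⟩ with ho1
  set l : Fin n := ⟨n - 1, by omega⟩ with hl
  set u := jordanSL n F with hu_def
  set ι : Matrix.SpecialLinearGroup (Fin n) F →* GL (Fin n) F := Matrix.SpecialLinearGroup.toGL
  have hι : ∀ (A : Matrix.SpecialLinearGroup (Fin n) F) (x : Fin n → F),
      ((ι A : GL (Fin n) F) : Matrix (Fin n) (Fin n) F) *ᵥ x = (A : Matrix (Fin n) (Fin n) F) *ᵥ x := fun _ _ => rfl
  have hu0 : ∀ j : Fin n, j.val = 0 → (ι u : Matrix (Fin n) (Fin n) F) *ᵥ e j = e j := by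
    intro j hj
    rw [hι, hu_def, coe_jordanSL, he, mulVec_single_one]
    ext i; simp [shiftMat, Matrix.one_apply, Pi.single_apply, hj]
  have hu1 : ∀ i j : Fin n, i.val + 1 = j.val → (ι u : Matrix (Fin n) (Fin n) F) *ᵥ e j = e j + e i := by
    intro i j hij
    rw [hι, hu_def, coe_jordanSL, he, he, mulVec_single_one]
    ext k; simp [shiftMat, Matrix.one_apply, Pi.single_apply, Fin.ext_iff]
    split_ifs <;> first | rfl | omega | simp
  -- the reversal
  let sg : F := ((Equiv.Perm.sign (Fin.revPerm : Equiv.Perm (Fin n)) : ℤ) : F)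
  have hsg : sg * sg = 1 := by
    simp only [sg, ← Int.cast_mul, Int.units_coe_mul_self, Int.cast_one]
  let σ : Fin n → F := fun i => if i = o then sg else 1
  have hσ0 : ∀ i, σ i ≠ 0 := by
    intro i; simp only [σ]
    split_ifs
    · intro h; simp [h] at hsg
    · exact one_ne_zero
  let h := revSL n F σ (by simp only [σ, Finset.prod_ite_eq' Finset.univ o (fun _ => sg), Finset.mem_univ, if_true]; exact hsg)
  have hh : ∀ i : Fin n, (ι h : Matrix (Fin n) (Fin n) F) *ᵥ e i = σ i • e (Fin.rev i) := by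
    intro i
    rw [hι, he, he, mulVec_single_one]
    ext k
    simp only [h, revSL, Matrix.col_apply, Matrix.submatrix_apply, id, Fin.revPerm_apply, Matrix.diagonal_apply,
      Pi.smul_apply, Pi.single_apply, smul_eq_mul, mul_ite, mul_one, mul_zero]
    by_cases hk : Fin.rev k = i
    · rw [if_pos hk, if_pos (by rw [← hk, Fin.rev_rev]), hk]
    · rw [if_neg hk, if_neg (fun e => hk (by rw [e, Fin.rev_rev]))]
  have hh' : ∀ i : Fin n, ((ι h)⁻¹ : GL (Fin n) F).val *ᵥ e (Fin.rev i) = (σ i)⁻¹ • e i := by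
    intro i
    have := gl_inv_mulVec (ι h) (e i)
    rw [hh, mulVec_smul] at this
    rw [← this, smul_smul, inv_mul_cancel₀ (hσ0 i), one_smul]
  set v := ι (h * u * h⁻¹) with hv_def
  have hv : ∀ i : Fin n, (v : Matrix (Fin n) (Fin n) F) *ᵥ e (Fin.rev i) =
      (σ i)⁻¹ • ((ι h : Matrix (Fin n) (Fin n) F) *ᵥ ((ι u : Matrix (Fin n) (Fin n) F) *ᵥ e i)) := by
    intro i
    rw [hv_def, map_mul, map_mul, map_inv, gl_mul_mulVec, gl_mul_mulVec, hh', mulVec_smul, mulVec_smul]
  let s : Fin n → F := fun k =>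
    if hk : k.val + 1 < n then σ ⟨n - 2 - k.val, by omega⟩ / σ (Fin.rev k) else 1
  have hs : ∀ k, s k ≠ 0 := by
    intro k; simp only [s]; split_ifs
    · exact div_ne_zero (hσ0 _) (hσ0 _)
    · exact one_ne_zero
  have hv1 : ∀ i j : Fin n, i.val + 1 = j.val → (v : Matrix (Fin n) (Fin n) F) *ᵥ e i = e i + s i • e j := by
    intro i j hij
    have h1 := hv (Fin.rev i)
    rw [Fin.rev_rev, hu1 ⟨n - 2 - i.val, by omega⟩ _ (by simp [Fin.val_rev]; omega), mulVec_add, hh, hh,
      Fin.rev_rev] at h1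
    rw [h1, smul_add, smul_smul, inv_mul_cancel₀ (hσ0 _), one_smul, smul_smul]
    congr 1
    rw [show Fin.rev (⟨n - 2 - i.val, by omega⟩ : Fin n) = j from Fin.ext (by simp [Fin.val_rev]; omega)]
    congr 1
    simp only [s]
    rw [dif_pos (by omega), div_eq_inv_mul]
  have hvl : ∀ i : Fin n, i.val + 1 = n → (v : Matrix (Fin n) (Fin n) F) *ᵥ e i = e i := by
    intro i hi
    have h1 := hv (Fin.rev i)
    rw [Fin.rev_rev, hu0 _ (by simp [Fin.val_rev]; omega), hh, Fin.rev_rev] at h1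
    rw [h1, smul_smul, inv_mul_cancel₀ (hσ0 _), one_smul]
  have ht := dot_ne_zero hn v e he s hs hv1 hvl
  set κ := -((e l ᵥ* ((v⁻¹ : GL (Fin n) F) : Matrix (Fin n) (Fin n) F)) ⬝ᵥ e o) * s o with hκ
  have hκ0 : κ ≠ 0 := mul_ne_zero (neg_ne_zero.2 ht) (hs o)
  obtain ⟨μ, hμ⟩ := IsCyclic.exists_generator (α := Fˣ)
  have hμ' : ∀ z : F, z ≠ 0 → ∃ k : ℕ, (μ : F) ^ (k + 1) = z := by
    intro z hz
    obtain ⟨k, hk⟩ := mem_powers_iff_mem_zpowers.2 (hμ (Units.mk0 z hz * μ⁻¹))
    simp only at hk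
    refine ⟨k, ?_⟩
    have := congrArg Units.val (congrArg (· * μ) hk)
    simpa [pow_succ] using this
  -- the root element
  have h1l : o1 ≠ l := by simp [ho1, hl, Fin.ext_iff]; omega
  let g : Matrix.SpecialLinearGroup (Fin n) F :=
    Matrix.SpecialLinearGroup.transvection h1l (-((μ : F) / κ))
  have hTeq : ∀ (i j : Fin n) (hij : i ≠ j) (c : F),
      ι (Matrix.SpecialLinearGroup.transvection hij c) = tv (c • e i) (e j) := by
    intro i j hij c
    have hd : e j ⬝ᵥ (c • e i) = 0 := by simp [he, Ne.symm hij]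
    refine Units.ext ?_
    rw [coe_tv hd]
    show (Matrix.SpecialLinearGroup.transvection hij c : Matrix (Fin n) (Fin n) F) = _
    rw [Matrix.SpecialLinearGroup.transvection_coe]
    ext a b
    simp [he, vecMulVec_apply, Matrix.single_apply, Pi.single_apply, Matrix.one_apply]
    split_ifs <;> first | rfl | tauto | (exfalso; tauto) | simp
  refine ⟨g, h, ?_⟩
  set K := Subgroup.closure ({u, g * u * g⁻¹, h * u * h⁻¹} : Set (Matrix.SpecialLinearGroup (Fin n) F))
  have huK : u ∈ K := Subgroup.subset_closure (by simp)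
  have hvK : h * u * h⁻¹ ∈ K := Subgroup.subset_closure (by simp)
  have hgK : u⁻¹ * (g * u * g⁻¹) ∈ K := mul_mem (inv_mem huK) (Subgroup.subset_closure (by simp))
  have hdot : ∀ i j : Fin n, e i ⬝ᵥ e j = if i = j then 1 else 0 := by
    intro i j
    rw [he, he, single_dotProduct, one_mul, Pi.single_apply]
  have hT : Mem1 (K.map ι) (((μ : F) / κ) • e o) (e l) := by
    have hol : e l ⬝ᵥ e o = 0 := by rw [hdot, if_neg (by simp [hl, ho, Fin.ext_iff]; omega)]
    have h1 : e l ⬝ᵥ e o1 = 0 := by rw [hdot, if_neg h1l.symm]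
    refine ⟨by rw [dotProduct_smul, hol, smul_zero], ⟨_, hgK, ?_⟩⟩
    have hg : ι g = tv ((-((μ : F) / κ)) • e o1) (e l) := hTeq o1 l h1l _
    have hφu : e l ᵥ* (ι u : Matrix (Fin n) (Fin n) F) = e l := by
      ext j
      rw [← mul_one ((e l ᵥ* _) j), ← dotProduct_single, ← he, ← dotProduct_mulVec]
      by_cases hj : j.val = 0
      · rw [hu0 j hj, he j, dotProduct_single, mul_one]
      · rw [hu1 ⟨j.val - 1, by omega⟩ j (by simp only; omega), dotProduct_add, hdot l ⟨j.val - 1, _⟩,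
          if_neg (by simp [hl, Fin.ext_iff]; omega), add_zero, he j, dotProduct_single, mul_one]
    have hu' : ((ι u)⁻¹ : GL (Fin n) F).val *ᵥ e o1 = e o1 - e o := by
      have := gl_inv_mulVec (ι u) (e o1 - e o)
      rw [mulVec_sub, hu0 o rfl, hu1 o o1 rfl, add_sub_cancel_right] at this
      exact this
    have hd1 : e l ⬝ᵥ ((-((μ : F) / κ)) • e o1) = 0 := by rw [dotProduct_smul, h1, smul_zero]
    have hd2 : e l ⬝ᵥ ((-((μ : F) / κ)) • (e o1 - e o)) = 0 := by
      rw [dotProduct_smul, dotProduct_sub, h1, hol, sub_self, smul_zero]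
    rw [map_mul, map_mul, map_mul, map_inv, map_inv, hg, ← mul_assoc, ← mul_assoc,
      show (ι u)⁻¹ * tv ((-((μ : F) / κ)) • e o1) (e l) * ι u =
        (ι u)⁻¹ * tv ((-((μ : F) / κ)) • e o1) (e l) * ((ι u)⁻¹)⁻¹ by rw [inv_inv],
      conj_tv _ hd1, inv_inv, mulVec_smul, hu', hφu]
    rw [show (tv ((-((μ : F) / κ)) • e o1) (e l))⁻¹ = tv (((μ : F) / κ) • e o1) (e l) from
      inv_eq_of_mul_eq_one_right (by
        rw [tv_mul_axis hd1 (by rw [dotProduct_smul, h1, smul_zero]), ← add_smul, neg_add_cancel, zero_smul,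
          tv_zero_left]),
      tv_mul_axis hd2 (by rw [dotProduct_smul, h1, smul_zero])]
    congr 1
    module
  have hall := has_single (K := K.map ι) (u := ι u) (v := v) hn (Subgroup.mem_map_of_mem ι huK)
    (Subgroup.mem_map_of_mem ι hvK) e he hu0 hu1 s hs hv1 hvl _ (μ : F) hμ'
    (div_mul_cancel₀ _ hκ0) hT
  haveI : Nontrivial (Fin n) := ⟨o, l, by simp [ho, hl, Fin.ext_iff]; omega⟩
  refine top_le_iff.1 ?_
  rw [← Cfsg.Agent.Lib.AutPSL.closure_transvections, Subgroup.closure_le]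
  rintro A ⟨i, j, hij, c, rfl⟩
  obtain ⟨B, hB, hBe⟩ := (hall i j hij).2 c
  rw [← hTeq i j hij c] at hBe
  rwa [Matrix.SpecialLinearGroup.toGL_injective hBe] at hB

end Cfsg.Agent.Lib.GenSL
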