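import Cfsg.Agent.Lib.GenSL.Companion
import Cfsg.Agent.Lib.GenSL.Axis
import Cfsg.Agent.Lib.GenSL.RegularGens

/-! Two regular unipotents `u, v` of `SL_n` with `u⁻¹ v` a prescribed companion matrix. -/

set_option autoImplicit false

namespace Cfsg.Agent.Lib.GenSL

open Matrix Polynomial

variable {n : ℕ} {F : Type*} [Field F]

/-- The coefficient vector of a polynomial. -/
noncomputable def cvec (n : ℕ) (p : F[X]) : Fin n → F := fun k => p.coeff k.val

theorem cm_mulVec_apply (f : F[X]) (z : Fin n → F) (k : Fin n) :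
    (cm f n *ᵥ z) k = (if h : k.val = 0 then 0 else z ⟨k.val - 1, by have := k.isLt; omega⟩) -
      z ⟨n - 1, by have := k.isLt; omega⟩ * f.coeff k.val := by
  have hk := k.isLt
  rw [Matrix.mulVec, dotProduct]
  rw [← Finset.add_sum_erase _ _ (Finset.mem_univ (⟨n - 1, by omega⟩ : Fin n))]
  have hlast : cm f n k ⟨n - 1, by omega⟩ = -f.coeff k.val := by
    simp [cm, show ¬ (n - 1 + 1 < n) by omega]
  rw [hlast]
  by_cases h : k.val = 0
  · rw [dif_pos h, Finset.sum_eq_zero]
    · ring
    · intro b hb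
      simp [Fin.ext_iff] at hb
      have := b.isLt
      simp [cm, show b.val + 1 < n by omega, show k.val ≠ b.val + 1 by omega]
  · rw [dif_neg h, Finset.sum_eq_single_of_mem (⟨k.val - 1, by omega⟩ : Fin n)]
    · simp only [cm, Matrix.of_apply]
      rw [if_pos (show k.val - 1 + 1 < n by omega), if_pos (show k.val = k.val - 1 + 1 by omega)]
      ring
    · simp [Fin.ext_iff]; omega
    · intro b hb hne
      simp [Fin.ext_iff] at hb hne
      have := b.isLt
      simp [cm, show b.val + 1 < n by omega, show k.val ≠ b.val + 1 by omega]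

/-- `(X - 1)^n`. -/
noncomputable def gpoly (F : Type*) [Field F] (n : ℕ) : F[X] := (Polynomial.X - Polynomial.C 1) ^ n

theorem gpoly_natDegree (m : ℕ) : (gpoly F m).natDegree = m := by
  rw [gpoly, natDegree_pow, natDegree_X_sub_C, mul_one]

theorem gpoly_monic (m : ℕ) : (gpoly F m).Monic := (monic_X_sub_C 1).pow m

theorem gpoly_coeff_zero (m : ℕ) : (gpoly F m).coeff 0 = (-1) ^ m := by
  rw [gpoly, coeff_zero_eq_eval_zero]; simp

theorem gpoly_coeff_self (m : ℕ) : (gpoly F m).coeff m = 1 := by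
  have h : (gpoly F m).coeff (gpoly F m).natDegree = 1 := (gpoly_monic m).coeff_natDegree
  rwa [gpoly_natDegree] at h

theorem gpoly_coeff_of_lt {m k : ℕ} (h : m < k) : (gpoly F m).coeff k = 0 :=
  coeff_eq_zero_of_natDegree_lt (by rw [gpoly_natDegree]; exact h)

theorem gpoly_coeff_pred (m : ℕ) (hm : 1 ≤ m) : (gpoly F m).coeff (m - 1) = -(m : F) := by
  have h1 : 0 < (gpoly F m).natDegree := by rw [gpoly_natDegree]; omega
  have h := nextCoeff_of_natDegree_pos h1
  rw [gpoly_natDegree] at h
  rw [← h, gpoly, (monic_X_sub_C (1 : F)).nextCoeff_pow, nextCoeff_X_sub_C]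
  simp

/-- The anti-triangular matrix of the powers of `X - 1`. -/
noncomputable def powMat (F : Type*) [Field F] (n : ℕ) : Matrix (Fin n) (Fin n) F :=
  Matrix.of fun i j => (gpoly F (n - 1 - j.val)).coeff i.val

theorem det_powMat : (powMat F n).det = ((Equiv.Perm.sign (Fin.revPerm : Equiv.Perm (Fin n)) : ℤ) : F) := by
  set M := (powMat F n).submatrix id Fin.revPerm with hM
  have hMe : ∀ i j, M i j = (gpoly F j.val).coeff i.val := by
    intro i j
    have := j.isLt
    simp [hM, powMat, Fin.val_rev, show n - 1 - (n - (j.val + 1)) = j.val by omega]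
  have h1 : M.det = 1 := by
    rw [Matrix.det_of_isUpperTriangular]
    · refine Finset.prod_eq_one fun i _ => ?_
      rw [hMe, gpoly_coeff_self]
    · intro i j hij
      rw [hMe, gpoly_coeff_of_lt (show j.val < i.val from hij)]
  have h2 : M.det = ((Equiv.Perm.sign (Fin.revPerm : Equiv.Perm (Fin n)) : ℤ) : F) * (powMat F n).det := by
    rw [hM, Matrix.det_permute']
  rw [h1] at h2
  have hs : ((Equiv.Perm.sign (Fin.revPerm : Equiv.Perm (Fin n)) : ℤ) : F) *
      ((Equiv.Perm.sign (Fin.revPerm : Equiv.Perm (Fin n)) : ℤ) : F) = 1 := by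
    rw [← Int.cast_mul, Int.units_coe_mul_self, Int.cast_one]
  calc (powMat F n).det = 1 * (powMat F n).det := (one_mul _).symm
    _ = _ := by rw [← hs, mul_assoc, ← h2, mul_one]

theorem cm_powMat : cm (gpoly F n) n * powMat F n = powMat F n * (1 + shiftMat n F) := by
  refine Matrix.ext fun i j => ?_
  have hi := i.isLt
  have hj := j.isLt
  rw [show (cm (gpoly F n) n * powMat F n) i j = (cm (gpoly F n) n *ᵥ fun k => powMat F n k j) i from rfl,
    cm_mulVec_apply]
  have hR : (powMat F n * (1 + shiftMat n F)) i j = powMat F n i j +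
      (if h : j.val = 0 then 0 else powMat F n i ⟨j.val - 1, by omega⟩) := by
    rw [mul_add, mul_one, Matrix.add_apply]
    congr 1
    rw [Matrix.mul_apply]
    by_cases h : j.val = 0
    · rw [dif_pos h]
      refine Finset.sum_eq_zero fun b _ => ?_
      simp [shiftMat, h]
    · rw [dif_neg h, Finset.sum_eq_single ⟨j.val - 1, by omega⟩]
      · simp [shiftMat]; omega
      · intro b _ hb
        simp [Fin.ext_iff] at hb
        simp [shiftMat]; omega
      · simp
  rw [hR]
  simp only [powMat, Matrix.of_apply]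
  set k := n - 1 - j.val with hk
  have hsplit : gpoly F (k + 1) = Polynomial.X * gpoly F k - gpoly F k := by
    rw [gpoly, gpoly, Polynomial.C_1]; ring
  have hc : (gpoly F (k + 1)).coeff i.val = (Polynomial.X * gpoly F k).coeff i.val - (gpoly F k).coeff i.val := by
    rw [hsplit, Polynomial.coeff_sub]
  have hX : (if h : i.val = 0 then (0 : F) else (gpoly F k).coeff (i.val - 1)) =
      (Polynomial.X * gpoly F k).coeff i.val := by
    by_cases h : i.val = 0
    · rw [dif_pos h, h, mul_coeff_zero, coeff_X_zero, zero_mul]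
    · rw [dif_neg h]
      conv_rhs => rw [show i.val = (i.val - 1) + 1 by omega]
      rw [coeff_X_mul]
  simp only [hX]
  by_cases h : j.val = 0
  · rw [dif_pos h]
    have hkn : k + 1 = n := by omega
    rw [show n - 1 = k by omega, gpoly_coeff_self, show gpoly F n = gpoly F (k + 1) by rw [hkn], hc]
    ring
  · rw [dif_neg h, gpoly_coeff_of_lt (show k < n - 1 by omega),
      show n - 1 - (j.val - 1) = k + 1 by omega, hc]
    ring

theorem band {u : GL (Fin n) F} (hu : RegUpper u) (s : ℕ → F)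
    (hs : ∀ i j : Fin n, i.val + 1 = j.val → (u : Matrix (Fin n) (Fin n) F) i j = s i.val) (k : ℕ) :
    (∀ i j : Fin n, j.val < i.val + k → (((u : Matrix (Fin n) (Fin n) F) - 1) ^ k) i j = 0) ∧
      ∀ i j : Fin n, j.val = i.val + k →
        (((u : Matrix (Fin n) (Fin n) F) - 1) ^ k) i j = ∏ l ∈ Finset.Ico i.val j.val, s l := by
  have hN : ∀ i j : Fin n, j.val ≤ i.val → ((u : Matrix (Fin n) (Fin n) F) - 1) i j = 0 := by
    intro i j h
    rcases h.lt_or_eq with h | h
    · rw [Matrix.sub_apply, hu.upper i j h, Matrix.one_apply_ne (fun e => by rw [e] at h; exact lt_irrefl _ h), sub_zero]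
    · rw [Fin.ext h, Matrix.sub_apply, hu.diag, Matrix.one_apply_eq, sub_self]
  induction k with
  | zero =>
    constructor
    · intro i j h
      rw [pow_zero, Matrix.one_apply_ne (fun e => by rw [e] at h; omega)]
    · intro i j h
      rw [pow_zero, show i = j from Fin.ext (by omega), Matrix.one_apply_eq, Finset.Ico_self, Finset.prod_empty]
  | succ k ih =>
    constructor
    · intro i j h
      rw [pow_succ, Matrix.mul_apply]
      refine Finset.sum_eq_zero fun b _ => ?_
      by_cases hb : b.val < i.val + k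
      · rw [ih.1 i b hb, zero_mul]
      · rw [hN b j (by omega), mul_zero]
    · intro i j h
      rw [pow_succ, Matrix.mul_apply, Finset.sum_eq_single ⟨i.val + k, by have := j.isLt; omega⟩]
      · rw [ih.2 i _ rfl, Matrix.sub_apply, hs _ j (by simp only; omega),
          Matrix.one_apply_ne (by simp [Fin.ext_iff]; omega), sub_zero]
        simp only
        rw [show j.val = i.val + k + 1 by omega, Finset.prod_Ico_succ_top (by omega)]
      · intro b _ hb
        simp [Fin.ext_iff] at hb
        by_cases hb' : b.val < i.val + k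
        · rw [ih.1 i b hb', zero_mul]
        · rw [hN b j (by omega), mul_zero]
      · simp

theorem prod_Ico_swap (s : ℕ → F) (m : ℕ) :
    ∏ j ∈ Finset.range (m + 1), ∏ l ∈ Finset.Ico j m, s l = ∏ l ∈ Finset.range m, s l ^ (l + 1) := by
  induction m with
  | zero => simp
  | succ m ih =>
    rw [Finset.prod_range_succ, Finset.Ico_self, Finset.prod_empty, mul_one]
    have e : s m ^ (m + 1) = s m ^ m * s m := pow_succ _ _
    have : ∀ j ∈ Finset.range (m + 1), ∏ l ∈ Finset.Ico j (m + 1), s l = (∏ l ∈ Finset.Ico j m, s l) * s m := by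
      intro j hj
      rw [Finset.prod_Ico_succ_top (by have := Finset.mem_range.1 hj; omega)]
    rw [Finset.prod_congr rfl this, Finset.prod_mul_distrib, ih, Finset.prod_const, Finset.card_range]
    exact (Finset.prod_range_succ (fun l => s l ^ (l + 1)) m).symm

/-- A regular unipotent upper matrix is conjugate to the Jordan block, with known determinant. -/
theorem RegUpper.exists_jordan {u : GL (Fin n) F} (hu : RegUpper u) (hn : 1 ≤ n) (s : ℕ → F)
    (hs : ∀ i j : Fin n, i.val + 1 = j.val → (u : Matrix (Fin n) (Fin n) F) i j = s i.val) :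
    ∃ M : Matrix (Fin n) (Fin n) F, (u : Matrix (Fin n) (Fin n) F) * M = M * (1 + shiftMat n F) ∧
      M.det = ∏ l ∈ Finset.range (n - 1), s l ^ (l + 1) := by
  set N := (u : Matrix (Fin n) (Fin n) F) - 1 with hN
  let last : Fin n := ⟨n - 1, by omega⟩
  refine ⟨Matrix.of fun i j => (N ^ (n - 1 - j.val)) i last, ?_, ?_⟩
  · have key : N * Matrix.of (fun i j => (N ^ (n - 1 - j.val)) i last) =
        Matrix.of (fun i (j : Fin n) => (N ^ (n - 1 - j.val)) i last) * shiftMat n F := by
      refine Matrix.ext fun i j => ?_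
      have hL : (N * Matrix.of (fun i j => (N ^ (n - 1 - j.val)) i last)) i j = (N ^ (n - 1 - j.val + 1)) i last := by
        rw [pow_succ', Matrix.mul_apply, Matrix.mul_apply]; rfl
      rw [hL, Matrix.mul_apply]
      by_cases h : j.val = 0
      · rw [(band hu s hs _).1 i last (by simp [last]; omega), eq_comm]
        refine Finset.sum_eq_zero fun b _ => ?_
        simp [shiftMat, h]
      · rw [Finset.sum_eq_single ⟨j.val - 1, by omega⟩]
        · simp [shiftMat, show j.val - 1 + 1 = j.val by omega,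
            show n - 1 - (j.val - 1) = n - 1 - j.val + 1 by omega]
        · intro b _ hb
          simp [Fin.ext_iff] at hb
          simp [shiftMat]; omega
        · simp
    rw [show (u : Matrix (Fin n) (Fin n) F) = 1 + N by rw [hN, add_sub_cancel], add_mul, mul_add, key, one_mul, mul_one]
  · rw [Matrix.det_of_isUpperTriangular]
    · obtain ⟨m, hm⟩ : ∃ m, n = m + 1 := ⟨n - 1, by omega⟩
      rw [show n - 1 = m by omega, ← prod_Ico_swap]
      rw [← hm, Finset.prod_range]
      refine Finset.prod_congr rfl fun i _ => ?_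
      rw [Matrix.of_apply, (band hu s hs _).2 i last (by simp [last]; omega)]
      simp [last]
      congr 2; omega
    · intro i j hij
      rw [Matrix.of_apply, (band hu s hs _).1 i last]
      have : j.val < i.val := hij
      simp [last]; omega

variable (F) in
/-- Input: an upper unitriangular matrix compatible with two monic polynomials. -/
structure BData (f : F[X]) (B : Matrix (Fin n) (Fin n) F) : Prop where
  diag : ∀ i, B i i = 1
  upper : ∀ i j : Fin n, j < i → B i j = 0
  last : ∀ k : Fin n, ∑ j, B k j * (gpoly F n).coeff (j.val + 1) = f.coeff (k.val + 1)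
  zero : f.coeff 0 = (gpoly F n).coeff 0

/-- The shifted matrix. -/
def shiftB (B : Matrix (Fin n) (Fin n) F) : Matrix (Fin n) (Fin n) F :=
  Matrix.of fun i j => if j.val = 0 then (if i.val = 0 then 1 else 0)
    else if i.val = 0 then 0 else B ⟨i.val - 1, by omega⟩ ⟨j.val - 1, by omega⟩

theorem shiftB_upper {f : F[X]} {B : Matrix (Fin n) (Fin n) F} (hB : BData F f B) :
    ∀ i j : Fin n, j < i → shiftB B i j = 0 := by
  intro i j hij
  have : j.val < i.val := hij
  simp only [shiftB, Matrix.of_apply]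
  split_ifs <;> first | rfl | omega | exact hB.upper _ _ (Fin.lt_def.2 (by simp only; omega))

theorem shiftB_diag {f : F[X]} {B : Matrix (Fin n) (Fin n) F} (hB : BData F f B) (i : Fin n) :
    shiftB B i i = 1 := by
  simp only [shiftB, Matrix.of_apply]
  split_ifs <;> first | rfl | exact hB.diag _

theorem cm_mul_eq {f : F[X]} {B : Matrix (Fin n) (Fin n) F} (hB : BData F f B) :
    cm f n * B = shiftB B * cm (gpoly F n) n := by
  refine Matrix.ext fun k j => ?_
  have hk := k.isLt
  have hj := j.isLt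
  rw [show (cm f n * B) k j = (cm f n *ᵥ fun l => B l j) k from rfl, cm_mulVec_apply, Matrix.mul_apply]
  by_cases h : j.val + 1 < n
  · rw [Finset.sum_eq_single (⟨j.val + 1, h⟩ : Fin n)]
    · rw [hB.upper ⟨n - 1, by omega⟩ j (Fin.lt_def.2 (by simp only; omega))]
      simp [shiftB, cm, h]
    · intro b _ hb
      simp [Fin.ext_iff] at hb
      simp [cm, h, hb]
    · simp
  · have hjn : j = ⟨n - 1, by omega⟩ := Fin.ext (by simp only; omega)
    rw [hjn]
    simp only [cm, Matrix.of_apply, if_neg (show ¬ (n - 1 + 1 < n) by omega)]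
    rw [show B ⟨n - 1, by omega⟩ ⟨n - 1, by omega⟩ = 1 from hB.diag _, one_mul]
    by_cases hk0 : k.val = 0
    · rw [dif_pos hk0, Finset.sum_eq_single (⟨0, by omega⟩ : Fin n)]
      · simp [shiftB, hk0, hB.zero]
      · intro b _ hb
        simp [Fin.ext_iff] at hb
        simp [shiftB, hk0, hb]
      · simp
    · rw [dif_neg hk0]
      have hl := hB.last ⟨k.val - 1, by omega⟩
      simp only at hl
      rw [show k.val - 1 + 1 = k.val by omega] at hl
      rw [← hl]
      obtain ⟨m, rfl⟩ : ∃ m, n = m + 1 := ⟨n - 1, by omega⟩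
      rw [Fin.sum_univ_castSucc, Fin.sum_univ_succ]
      simp only [Fin.val_castSucc, Fin.val_last, Fin.val_succ, Fin.val_zero, gpoly_coeff_self, mul_one]
      have e0 : shiftB B k 0 = 0 := by
        simp only [shiftB, Matrix.of_apply, Fin.val_zero, if_true]
        rw [if_neg hk0]
      have e1 : ∀ i : Fin m, shiftB B k i.succ = B ⟨k.val - 1, by omega⟩ i.castSucc := fun i => by
        simp only [shiftB, Matrix.of_apply, Fin.val_succ]
        rw [if_neg (by omega), if_neg hk0]
        rfl
      rw [e0, zero_mul, zero_add]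
      simp only [e1, mul_neg, Finset.sum_neg_distrib]
      rw [show (⟨m + 1 - 1, by omega⟩ : Fin (m + 1)) = Fin.last m from Fin.ext (by simp)]
      ring

/-- The output of the construction. -/
structure PairData (f : F[X]) (B : Matrix (Fin n) (Fin n) F)
    (u v : Matrix.SpecialLinearGroup (Fin n) F) : Prop where
  reg : RegUpper (Matrix.SpecialLinearGroup.toGL u)
  super : ∀ i j : Fin n, i.val + 1 = j.val → (u : Matrix (Fin n) (Fin n) F) i j = B i j - shiftB B i j
  comp : ((u⁻¹ * v : Matrix.SpecialLinearGroup (Fin n) F) : Matrix (Fin n) (Fin n) F) = cm f n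
  vcol : ∀ i j : Fin n, i.val + 1 = j.val → (v : Matrix (Fin n) (Fin n) F) *ᵥ (fun k => B k i) = fun k => B k j
  vlast : ∀ i : Fin n, i.val + 1 = n → (v : Matrix (Fin n) (Fin n) F) *ᵥ (fun k => B k i) =
    B *ᵥ fun k => -(gpoly F n).coeff k.val
  ufix : ∀ i : Fin n, i.val = 0 → (u : Matrix (Fin n) (Fin n) F) *ᵥ Pi.single i 1 = Pi.single i 1
  vjordan : ∃ M : Matrix (Fin n) (Fin n) F, (v : Matrix (Fin n) (Fin n) F) * M = M * (1 + shiftMat n F) ∧
    M.det = ((Equiv.Perm.sign (Fin.revPerm : Equiv.Perm (Fin n)) : ℤ) : F)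

theorem exists_pair {f : F[X]} {B : Matrix (Fin n) (Fin n) F} (hB : BData F f B)
    (hreg : ∀ i j : Fin n, i.val + 1 = j.val → B i j - shiftB B i j ≠ 0) :
    ∃ u v : Matrix.SpecialLinearGroup (Fin n) F, PairData f B u v := by
  classical
  have hdB : B.det = 1 := by
    rw [Matrix.det_of_isUpperTriangular (fun i j h => hB.upper i j h)]
    exact Finset.prod_eq_one fun i _ => hB.diag i
  have hdA : (shiftB B).det = 1 := by
    rw [Matrix.det_of_isUpperTriangular (fun i j h => shiftB_upper hB i j h)]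
    exact Finset.prod_eq_one fun i _ => shiftB_diag hB i
  have hdG : (cm (gpoly F n) n).det = 1 := by
    have h := congrArg Matrix.det (cm_powMat (F := F) (n := n))
    rw [Matrix.det_mul, Matrix.det_mul] at h
    have hJ : (1 + shiftMat n F).det = 1 := (jordanSL n F).2
    rw [hJ, mul_one] at h
    have hne : (powMat F n).det ≠ 0 := by
      rw [det_powMat]
      rcases Int.units_eq_one_or (Equiv.Perm.sign (Fin.revPerm : Equiv.Perm (Fin n))) with h | h <;> simp [h]
    exact mul_right_cancel₀ hne (h.trans (one_mul _).symm)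
  let Bs : Matrix.SpecialLinearGroup (Fin n) F := ⟨B, hdB⟩
  let As : Matrix.SpecialLinearGroup (Fin n) F := ⟨shiftB B, hdA⟩
  let Gs : Matrix.SpecialLinearGroup (Fin n) F := ⟨cm (gpoly F n) n, hdG⟩
  set u := Bs * As⁻¹ with hu
  set v := Bs * Gs * Bs⁻¹ with hv
  have huA : (u : Matrix (Fin n) (Fin n) F) * shiftB B = B := by
    show (u : Matrix (Fin n) (Fin n) F) * (As : Matrix (Fin n) (Fin n) F) = (Bs : Matrix (Fin n) (Fin n) F)
    rw [← Matrix.SpecialLinearGroup.coe_mul, hu, inv_mul_cancel_right]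
  have huU : ∀ i j : Fin n, j < i → (u : Matrix (Fin n) (Fin n) F) i j = 0 := by
    have : Invertible (shiftB B) := Matrix.invertibleOfIsUnitDet _ (by rw [hdA]; exact isUnit_one)
    have e : (u : Matrix (Fin n) (Fin n) F) = B * (shiftB B)⁻¹ := by
      calc (u : Matrix (Fin n) (Fin n) F) = (u : Matrix (Fin n) (Fin n) F) * shiftB B * (shiftB B)⁻¹ :=
            (Matrix.mul_nonsing_inv_cancel_right _ _ (by rw [hdA]; exact isUnit_one)).symm
        _ = B * (shiftB B)⁻¹ := by rw [huA]
    have hb : (B * (shiftB B)⁻¹).BlockTriangular id :=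
      Matrix.BlockTriangular.mul (fun i j h => hB.upper i j h)
        (Matrix.blockTriangular_inv_of_blockTriangular (fun i j h => shiftB_upper hB i j h))
    intro i j h
    rw [e]; exact hb h
  have hrow : ∀ i j : Fin n, (∑ l, (u : Matrix (Fin n) (Fin n) F) i l * shiftB B l j) = B i j := fun i j => by
    rw [← Matrix.mul_apply, huA]
  have hud : ∀ i, (u : Matrix (Fin n) (Fin n) F) i i = 1 := by
    intro i
    have := hrow i i
    rw [Finset.sum_eq_single i, shiftB_diag hB, mul_one, hB.diag] at this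
    · exact this
    · intro b _ hb
      rcases lt_or_gt_of_ne hb with h | h
      · rw [huU i b h, zero_mul]
      · rw [shiftB_upper hB b i h, mul_zero]
    · simp
  have hus : ∀ i j : Fin n, i.val + 1 = j.val → (u : Matrix (Fin n) (Fin n) F) i j = B i j - shiftB B i j := by
    intro i j hij
    have hne : i ≠ j := fun e => by rw [e] at hij; omega
    have := hrow i j
    rw [← Finset.add_sum_erase _ _ (Finset.mem_univ i), hud, one_mul,
      Finset.sum_eq_single_of_mem j (by simp [hne.symm]), shiftB_diag hB, mul_one] at this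
    · rw [← this]; ring
    · intro b hb hbj
      simp at hb
      have h1 : b.val ≠ i.val := fun e => hb (Fin.ext e)
      have h2 : b.val ≠ j.val := fun e => hbj (Fin.ext e)
      rcases Nat.lt_or_ge b.val i.val with h | h
      · rw [huU i b h, zero_mul]
      · rw [shiftB_upper hB b j (Fin.lt_def.2 (by omega)), mul_zero]
  have hGcol : ∀ i : Fin n, (v : Matrix (Fin n) (Fin n) F) *ᵥ (fun k => B k i) =
      B *ᵥ (cm (gpoly F n) n *ᵥ Pi.single i 1) := by
    intro i
    have hBi : (fun k => B k i) = B *ᵥ Pi.single i 1 := by rw [mulVec_single_one]; rfl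
    rw [hBi, mulVec_mulVec, mulVec_mulVec]
    congr 1
    show (v : Matrix (Fin n) (Fin n) F) * (Bs : Matrix (Fin n) (Fin n) F) = (Bs : Matrix (Fin n) (Fin n) F) * (Gs : Matrix (Fin n) (Fin n) F)
    rw [← Matrix.SpecialLinearGroup.coe_mul, ← Matrix.SpecialLinearGroup.coe_mul, hv, inv_mul_cancel_right]
  refine ⟨u, v, ⟨hud, huU, fun i j h => by
    show (u : Matrix (Fin n) (Fin n) F) i j ≠ 0
    rw [hus i j h]; exact hreg i j h⟩, hus, ?_, ?_, ?_, ?_, ?_⟩
  · have hCB : cm f n * B = shiftB B * cm (gpoly F n) n := cm_mul_eq hB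
    have e : u⁻¹ * v = As * Gs * Bs⁻¹ := by rw [hu, hv]; group
    rw [e, Matrix.SpecialLinearGroup.coe_mul, Matrix.SpecialLinearGroup.coe_mul]
    show shiftB B * cm (gpoly F n) n * _ = _
    rw [← hCB, Matrix.mul_assoc]
    show cm f n * ((Bs : Matrix (Fin n) (Fin n) F) * _) = _
    rw [← Matrix.SpecialLinearGroup.coe_mul, mul_inv_cancel, Matrix.SpecialLinearGroup.coe_one, mul_one]
  · intro i j h
    rw [hGcol, cm_single _ i j h, mulVec_single_one]; rfl
  · intro i h
    rw [hGcol, cm_single_last _ i h]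
  · intro i hi
    rw [mulVec_single_one]
    ext k
    simp only [Matrix.col_apply]
    by_cases hk : k = i
    · subst hk; rw [hud, Pi.single_eq_same]
    · rw [Pi.single_eq_of_ne hk, huU k i (Fin.lt_def.2 (by have : k.val ≠ i.val := fun e => hk (Fin.ext e); omega))]
  · refine ⟨B * powMat F n, ?_, by rw [Matrix.det_mul, hdB, one_mul, det_powMat]⟩
    rw [Matrix.mul_assoc, ← cm_powMat, ← Matrix.mul_assoc, ← Matrix.mul_assoc]
    congr 1
    show (v : Matrix (Fin n) (Fin n) F) * (Bs : Matrix (Fin n) (Fin n) F) = (Bs : Matrix (Fin n) (Fin n) F) * (Gs : Matrix (Fin n) (Fin n) F)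
    rw [← Matrix.SpecialLinearGroup.coe_mul, ← Matrix.SpecialLinearGroup.coe_mul, hv, inv_mul_cancel_right]

theorem regular_of_jordan {u M : Matrix (Fin n) (Fin n) F} (hn : 1 ≤ n) (hM : M.det ≠ 0)
    (h : u * M = M * (1 + shiftMat n F)) : IsNilpotent (u - 1) ∧ (u - 1) ^ (n - 1) ≠ 0 := by
  have hu : IsUnit M := (Matrix.isUnit_iff_isUnit_det _).2 (isUnit_iff_ne_zero.2 hM)
  have h1 : (u - 1) * M = M * shiftMat n F := by rw [sub_mul, h, mul_add, mul_one, one_mul, add_sub_cancel_left]
  have hk : ∀ k, (u - 1) ^ k * M = M * shiftMat n F ^ k := by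
    intro k
    induction k with
    | zero => simp
    | succ k ih => rw [pow_succ, pow_succ, Matrix.mul_assoc, h1, ← Matrix.mul_assoc, ih, Matrix.mul_assoc]
  refine ⟨⟨n, ?_⟩, fun h0 => ?_⟩
  · have e : shiftMat n F ^ n = 0 := by
      ext i j; rw [shiftMat_pow, if_neg (by omega)]; rfl
    have h2 := hk n
    rw [e, mul_zero] at h2
    exact hu.mul_left_eq_zero.1 h2
  · have h2 := hk (n - 1)
    rw [h0, zero_mul] at h2
    have h3 := congrFun (congrFun (hu.mul_right_eq_zero.1 h2.symm) ⟨0, hn⟩) ⟨n - 1, by omega⟩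
    simp [shiftMat_pow] at h3

theorem PairData.regular {f : F[X]} {B : Matrix (Fin n) (Fin n) F} {u v : Matrix.SpecialLinearGroup (Fin n) F}
    (h : PairData f B u v) (hn : 1 ≤ n) :
    (IsNilpotent ((u : Matrix (Fin n) (Fin n) F) - 1) ∧ ((u : Matrix (Fin n) (Fin n) F) - 1) ^ (n - 1) ≠ 0) ∧
      (IsNilpotent ((v : Matrix (Fin n) (Fin n) F) - 1) ∧ ((v : Matrix (Fin n) (Fin n) F) - 1) ^ (n - 1) ≠ 0) := by
  constructor
  · let s : ℕ → F := fun i => if hi : i + 1 < n then (u : Matrix (Fin n) (Fin n) F) ⟨i, by omega⟩ ⟨i + 1, hi⟩ else 1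
    have hs : ∀ i j : Fin n, i.val + 1 = j.val → (u : Matrix (Fin n) (Fin n) F) i j = s i.val := by
      intro i j hij
      have := j.isLt
      simp only [s, dif_pos (show i.val + 1 < n by omega)]
      exact congrArg ((u : Matrix (Fin n) (Fin n) F) i) (Fin.ext hij.symm)
    obtain ⟨M, hM, hdet⟩ := h.reg.exists_jordan hn s hs
    refine regular_of_jordan hn ?_ hM
    rw [hdet, Finset.prod_ne_zero_iff]
    intro l hl
    have hl' : l + 1 < n := by have := Finset.mem_range.1 hl; omega
    refine pow_ne_zero _ ?_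
    simp only [s, dif_pos hl']
    exact h.reg.super _ _ rfl
  · obtain ⟨M, hM, hdet⟩ := h.vjordan
    refine regular_of_jordan hn ?_ hM
    rw [hdet]
    rcases Int.units_eq_one_or (Equiv.Perm.sign (Fin.revPerm : Equiv.Perm (Fin n))) with h | h <;> simp [h]

/-- Conjugacy in SL of `u` and `v`, given the determinant condition. -/
theorem PairData.exists_conj {f : F[X]} {B : Matrix (Fin n) (Fin n) F} {u v : Matrix.SpecialLinearGroup (Fin n) F}
    (h : PairData f B u v) (hn : 1 ≤ n) (s : ℕ → F)
    (hs : ∀ i j : Fin n, i.val + 1 = j.val → (u : Matrix (Fin n) (Fin n) F) i j = s i.val)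
    (c : F) (hc : c ^ n * ((Equiv.Perm.sign (Fin.revPerm : Equiv.Perm (Fin n)) : ℤ) : F) =
      ∏ l ∈ Finset.range (n - 1), s l ^ (l + 1)) :
    ∃ g : Matrix.SpecialLinearGroup (Fin n) F, g * u * g⁻¹ = v := by
  obtain ⟨Mu, hMu, hdu⟩ := h.reg.exists_jordan hn s hs
  obtain ⟨Mv, hMv, hdv⟩ := h.vjordan
  have hd0 : ∏ l ∈ Finset.range (n - 1), s l ^ (l + 1) ≠ 0 := by
    rw [Finset.prod_ne_zero_iff]
    intro l hl
    have hl' : l + 1 < n := by have := Finset.mem_range.1 hl; omega
    have := h.reg.super ⟨l, by omega⟩ ⟨l + 1, hl'⟩ rfl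
    rw [show ((Matrix.SpecialLinearGroup.toGL u : GL (Fin n) F) : Matrix (Fin n) (Fin n) F) = (u : Matrix (Fin n) (Fin n) F) from rfl,
      hs _ _ rfl] at this
    exact pow_ne_zero _ this
  have hu : IsUnit Mu.det := isUnit_iff_ne_zero.2 (hdu ▸ hd0)
  let g : Matrix.SpecialLinearGroup (Fin n) F := ⟨c • (Mv * Mu⁻¹), by
    rw [Matrix.det_smul, Matrix.det_mul, Matrix.det_nonsing_inv, Ring.inverse_eq_inv', hdu, hdv,
      Fintype.card_fin, ← mul_assoc, hc, mul_inv_cancel₀ hd0]⟩
  refine ⟨g, mul_inv_eq_iff_eq_mul.2 (Subtype.ext ?_)⟩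
  show (c • (Mv * Mu⁻¹)) * (u : Matrix (Fin n) (Fin n) F) = (v : Matrix (Fin n) (Fin n) F) * (c • (Mv * Mu⁻¹))
  rw [smul_mul_assoc, mul_smul_comm]
  congr 1
  calc Mv * Mu⁻¹ * (u : Matrix (Fin n) (Fin n) F)
      = Mv * Mu⁻¹ * ((u : Matrix (Fin n) (Fin n) F) * Mu) * Mu⁻¹ := by
        rw [Matrix.mul_assoc (Mv * Mu⁻¹) ((u : Matrix (Fin n) (Fin n) F) * Mu),
          Matrix.mul_nonsing_inv_cancel_right _ _ hu]
    _ = Mv * Mu⁻¹ * (Mu * (1 + shiftMat n F)) * Mu⁻¹ := by
        rw [show ((u : Matrix (Fin n) (Fin n) F) * Mu) = Mu * (1 + shiftMat n F) from hMu]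
    _ = Mv * (1 + shiftMat n F) * Mu⁻¹ := by
        rw [Matrix.mul_assoc Mv, ← Matrix.mul_assoc Mu⁻¹, Matrix.nonsing_inv_mul _ hu, one_mul]
    _ = _ := by rw [← hMv, Matrix.mul_assoc]

end Cfsg.Agent.Lib.GenSL
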