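import Cfsg.Agent.Lib.GenSL.Companion
import Cfsg.Agent.Lib.GenSL.Axis

/-! A commutator seed fills the transvection group with axis `ones`. -/

set_option autoImplicit false

namespace Cfsg.Agent.Lib.GenSL

open Matrix Cfsg.Agent.Lib.Subspaces.Transvection

variable {n : ℕ} {F : Type*} [Field F] {K : Type*} [Field K] [Algebra F K] {β : K}

theorem pv_single_zero (hn : 0 < n) : pv n β (Pi.single ⟨0, hn⟩ (1 : F)) = 1 := by
  rw [pv_single]; simp

/-- The companion matrix inside a subgroup. -/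
structure Setting (F : Type*) [Field F] {K : Type*} [Field K] [Algebra F K] (n : ℕ) (β : K)
    (G : Subgroup (GL (Fin n) F)) (C : GL (Fin n) F) : Prop where
  good : GoodRoot F n β
  mem : C ∈ G
  val : (C : Matrix (Fin n) (Fin n) F) = cm (fpoly F β) n
  gen : ∀ A : Subring K, β ∈ A → A = ⊤

namespace Setting

variable {G : Subgroup (GL (Fin n) F)} {C : GL (Fin n) F}

theorem ones_C (hS : Setting F n β G C) :
    ones n F ᵥ* ((C⁻¹ : GL (Fin n) F) : Matrix (Fin n) (Fin n) F) = ones n F := by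
  have h1 : ones n F ᵥ* (C : Matrix (Fin n) (Fin n) F) = ones n F := dotProduct_eq _ _ fun z => by
    rw [← dotProduct_mulVec, hS.val, (hS.good.cm_coords z).1]
  conv_lhs => rw [← h1]
  rw [vecMul_vecMul, ← Units.val_mul, mul_inv_cancel, Units.val_one, vecMul_one]

theorem mem1_conj (hS : Setting F n β G C) {z : Fin n → F} (h : Mem1 G z (ones n F)) :
    Mem1 G (cm (fpoly F β) n *ᵥ z) (ones n F) := by
  have h2 := h.conj hS.mem
  rwa [hS.ones_C, hS.val] at h2

/-- The power of the companion matrix which is a transvection. -/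
theorem mem1_wv (hS : Setting F n β G C) {r : ℕ} (hr : β ^ r = 1) :
    Mem1 G (((r : F) / (minpoly F β).eval 1) • wv F n β) (ones n F) := by
  refine ⟨by rw [dotProduct_smul, hS.good.ones_wv, smul_zero], ?_⟩
  have e : C ^ r = tv (((r : F) / (minpoly F β).eval 1) • wv F n β) (ones n F) := by
    refine gl_ext fun z => ?_
    rw [Units.val_pow_eq_pow_val, hS.val, hS.good.cm_pow_eq hr,
      tv_mulVec (by rw [dotProduct_smul, hS.good.ones_wv, smul_zero])]
  rw [← e]
  exact pow_mem hS.mem r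

/-- The seed gives the whole root group of the part killed by both functionals. -/
theorem hasH (hS : Setting F n β G C) {b : Fin n → F} (hb : Mem1 G b (ones n F)) (hpv : pv n β b ≠ 0)
    {z : Fin n → F} (h1 : ones n F ⬝ᵥ z = 0) (h2 : derv n F ⬝ᵥ z = 0) : Has G z (ones n F) := by
  classical
  have hzero : Mem1 G (0 : Fin n → F) (ones n F) :=
    ⟨dotProduct_zero _, by rw [tv_zero_left]; exact one_mem G⟩
  let S : AddSubgroup K :=
    { carrier := {x | ∃ y, Mem1 G y (ones n F) ∧ derv n F ⬝ᵥ y = 0 ∧ pv n β y = x}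
      zero_mem' := ⟨0, hzero, dotProduct_zero _, map_zero _⟩
      add_mem' := by
        rintro _ _ ⟨y, hy, hd, rfl⟩ ⟨y', hy', hd', rfl⟩
        exact ⟨y + y', hy.add hy', by rw [dotProduct_add, hd, hd', add_zero], map_add _ _ _⟩
      neg_mem' := by
        rintro _ ⟨y, hy, hd, rfl⟩
        exact ⟨-y, hy.neg, by rw [dotProduct_neg, hd, neg_zero], map_neg _ _⟩ }
  have hβS : ∀ x ∈ S, β * x ∈ S := by
    rintro _ ⟨y, hy, hd, rfl⟩
    obtain ⟨g1, g2, g3⟩ := hS.good.cm_coords y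
    exact ⟨_, hS.mem1_conj hy, by rw [g2, hd, hy.1, add_zero], g3⟩
  let A : Subring K :=
    { carrier := {a | ∀ x ∈ S, a * x ∈ S}
      mul_mem' := fun {a c} ha hc x hx => by rw [mul_assoc]; exact ha _ (hc x hx)
      one_mem' := fun x hx => by rwa [one_mul]
      add_mem' := fun {a c} ha hc x hx => by rw [add_mul]; exact add_mem (ha x hx) (hc x hx)
      zero_mem' := fun x _ => by rw [zero_mul]; exact zero_mem S
      neg_mem' := fun {a} ha x hx => by rw [neg_mul]; exact neg_mem (ha x hx) }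
  have hA : A = ⊤ := hS.gen A hβS
  obtain ⟨g1, g2, g3⟩ := hS.good.cm_coords b
  have hx0 : (β - 1) * pv n β b ∈ S :=
    ⟨cm (fpoly F β) n *ᵥ b - b, (hS.mem1_conj hb).sub hb,
      by rw [dotProduct_sub, g2, hb.1, add_zero, sub_self], by rw [map_sub, g3]; ring⟩
  have hne : (β - 1) * pv n β b ≠ 0 := mul_ne_zero (sub_ne_zero.2 hS.good.ne_one) hpv
  have hall : ∀ x : K, x ∈ S := fun x => by
    have h := (hA ▸ Subring.mem_top (x * ((β - 1) * pv n β b)⁻¹) : x * ((β - 1) * pv n β b)⁻¹ ∈ A) _ hx0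
    rwa [mul_assoc, inv_mul_cancel₀ hne, mul_one] at h
  refine has_of_mem1 fun c => ?_
  obtain ⟨y, hy, hd, he⟩ := hall (pv n β (c • z))
  have : y = c • z := hS.good.ext_coords (by rw [hy.1, dotProduct_smul, h1, smul_zero])
    (by rw [hd, dotProduct_smul, h2, smul_zero]) he
  rwa [this] at hy

/-- Completing the axis group. -/
theorem fullAxis (hS : Setting F n β G C)
    (hH : ∀ z : Fin n → F, ones n F ⬝ᵥ z = 0 → derv n F ⬝ᵥ z = 0 → Has G z (ones n F))
    {b : Fin n → F} (hb : Has G b (ones n F)) (hd : derv n F ⬝ᵥ b ≠ 0) : FullAxis G (ones n F) := by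
  intro z hz
  set a := (derv n F ⬝ᵥ z) / (derv n F ⬝ᵥ b)
  have h := (hb.smul a).add (hH (z - a • b) (by rw [dotProduct_sub, dotProduct_smul, hz, hb.1, smul_zero, sub_zero])
    (by rw [dotProduct_sub, dotProduct_smul, smul_eq_mul, div_mul_cancel₀ _ hd, sub_self]))
  rwa [add_sub_cancel] at h

/-- A regular upper unipotent does not fix the line of the centre. -/
theorem pv_ne_zero (hS : Setting F n β G C) {u : GL (Fin n) F} (hu : RegUpper u)
    (h : ones n F ⬝ᵥ ((u : Matrix (Fin n) (Fin n) F) *ᵥ wv F n β) = 0) :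
    pv n β ((u : Matrix (Fin n) (Fin n) F) *ᵥ wv F n β) ≠ 0 := by
  intro hp
  have hn : 0 < n := by have := hS.good.deg; omega
  set c := (derv n F ⬝ᵥ ((u : Matrix (Fin n) (Fin n) F) *ᵥ wv F n β)) / (minpoly F β).eval 1
  have he : (u : Matrix (Fin n) (Fin n) F) *ᵥ wv F n β = c • wv F n β :=
    hS.good.ext_coords (by rw [h, dotProduct_smul, hS.good.ones_wv, smul_zero])
      (by rw [dotProduct_smul, hS.good.derv_wv, smul_eq_mul, div_mul_cancel₀ _ (hS.good.not_root 1)])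
      (by rw [hp, map_smul, hS.good.pv_wv, smul_zero])
  have hmem := hu.single_mem hn (F ∙ wv F n β) (fun z hz => by
    obtain ⟨a, rfl⟩ := Submodule.mem_span_singleton.1 hz
    rw [mulVec_smul, he, smul_smul]
    exact Submodule.smul_mem _ _ (Submodule.mem_span_singleton_self _))
    (by rw [Ne, Submodule.span_singleton_eq_bot]; exact hS.good.wv_ne_zero)
  obtain ⟨a, ha⟩ := Submodule.mem_span_singleton.1 hmem
  have := congrArg (pv n β) ha
  rw [map_smul, hS.good.pv_wv, smul_zero, pv_single_zero hn] at this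
  exact zero_ne_one this

theorem pv_ne_zero_inv (hS : Setting F n β G C) {u : GL (Fin n) F} (hu : RegUpper u)
    (h : ones n F ⬝ᵥ (((u⁻¹ : GL (Fin n) F) : Matrix (Fin n) (Fin n) F) *ᵥ wv F n β) = 0) :
    pv n β (((u⁻¹ : GL (Fin n) F) : Matrix (Fin n) (Fin n) F) *ᵥ wv F n β) ≠ 0 := by
  intro hp
  set x := ((u⁻¹ : GL (Fin n) F) : Matrix (Fin n) (Fin n) F) *ᵥ wv F n β with hx
  set c := (derv n F ⬝ᵥ x) / (minpoly F β).eval 1
  have he : x = c • wv F n β :=
    hS.good.ext_coords (by rw [h, dotProduct_smul, hS.good.ones_wv, smul_zero])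
      (by rw [dotProduct_smul, hS.good.derv_wv, smul_eq_mul, div_mul_cancel₀ _ (hS.good.not_root 1)])
      (by rw [hp, map_smul, hS.good.pv_wv, smul_zero])
  have hw := gl_mulVec_inv u (wv F n β)
  rw [← hx, he, mulVec_smul] at hw
  have hc : c ≠ 0 := fun h0 => hS.good.wv_ne_zero (by rw [← hw, h0, zero_smul])
  have hu0 : ones n F ⬝ᵥ ((u : Matrix (Fin n) (Fin n) F) *ᵥ wv F n β) = 0 := by
    have := congrArg (fun y => ones n F ⬝ᵥ y) hw
    simp only [dotProduct_smul, hS.good.ones_wv, smul_eq_mul, mul_eq_zero] at this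
    exact this.resolve_left hc
  refine hS.pv_ne_zero hu hu0 ?_
  have := congrArg (pv n β) hw
  rw [map_smul, hS.good.pv_wv, smul_eq_zero] at this
  exact this.resolve_left hc

/-- The seed over an arbitrary finite field. -/
theorem full_of_tuned (hS : Setting F n β G C) {r : ℕ} (hr : β ^ r = 1) (hr0 : (r : F) ≠ 0)
    {u : GL (Fin n) F} (hu : RegUpper u) (huG : u ∈ G)
    (ht : ones n F ⬝ᵥ ((u : Matrix (Fin n) (Fin n) F) *ᵥ wv F n β) = 0)
    (hρ : ones n F ⬝ᵥ (((u⁻¹ : GL (Fin n) F) : Matrix (Fin n) (Fin n) F) *ᵥ wv F n β) ≠ 0)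
    (hd : derv n F ⬝ᵥ ((u : Matrix (Fin n) (Fin n) F) *ᵥ wv F n β) ≠ 0)
    (hB : ∃ z : Fin n → F, ones n F ⬝ᵥ z = 0 ∧ derv n F ⬝ᵥ z = 0 ∧
      ones n F ⬝ᵥ (((u⁻¹ : GL (Fin n) F) : Matrix (Fin n) (Fin n) F) *ᵥ z) ≠ 0) :
    FullAxis G (ones n F) := by
  set κ := (r : F) / (minpoly F β).eval 1
  have hκ : κ ≠ 0 := div_ne_zero hr0 (hS.good.not_root 1)
  have hT := hS.mem1_wv hr
  have hT' := hT.conj huG
  rw [mulVec_smul] at hT'
  set uw := (u : Matrix (Fin n) (Fin n) F) *ᵥ wv F n β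
  have hb := hT.comm hT' (by rw [dotProduct_smul, ht, smul_zero])
  have hne : pv n β (-(ones n F ᵥ* ((u⁻¹ : GL (Fin n) F) : Matrix (Fin n) (Fin n) F) ⬝ᵥ κ • wv F n β) • κ • uw) ≠ 0 := by
    rw [map_smul, map_smul, dotProduct_smul, ← dotProduct_mulVec]
    exact smul_ne_zero (neg_ne_zero.2 (mul_ne_zero hκ hρ)) (smul_ne_zero hκ (hS.pv_ne_zero hu ht))
  obtain ⟨z, hz1, hz2, hz3⟩ := hB
  have hz := hS.hasH hb hne hz1 hz2
  refine hS.fullAxis (fun y h1 h2 => hS.hasH hb hne h1 h2) (b := uw) (has_of_mem1 fun x => ?_) hd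
  have h := (hz.mem1 (-x / ((ones n F ⬝ᵥ (((u⁻¹ : GL (Fin n) F) : Matrix (Fin n) (Fin n) F) *ᵥ z)) * κ))).comm hT'
    (by rw [dotProduct_smul, ht, smul_zero])
  rw [dotProduct_smul, ← dotProduct_mulVec, smul_smul] at h
  convert h using 2
  rw [← show κ = (r : F) / (minpoly F β).eval 1 from rfl]
  simp only [smul_eq_mul]
  field_simp

theorem mem1_natSMul {b φ : Fin n → F} (h : Mem1 G b φ) (k : ℕ) : Mem1 G ((k : F) • b) φ := by
  induction k with
  | zero => rw [Nat.cast_zero, zero_smul]; exact ⟨dotProduct_zero φ, by rw [tv_zero_left]; exact one_mem G⟩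
  | succ k ih => rw [Nat.cast_succ, add_smul, one_smul]; exact ih.add h

theorem has_of_prime (hp : ∀ x : F, ∃ k : ℕ, (k : F) = x) {b φ : Fin n → F} (h : Mem1 G b φ) : Has G b φ :=
  has_of_mem1 fun x => by obtain ⟨k, rfl⟩ := hp x; exact mem1_natSMul h k

/-- The seed over a prime field. -/
theorem full_of_prime (hS : Setting F n β G C) (hp : ∀ x : F, ∃ k : ℕ, (k : F) = x) {r : ℕ} (hr : β ^ r = 1)
    (hr0 : (r : F) ≠ 0) {u : GL (Fin n) F} (hu : RegUpper u) (huG : u ∈ G)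
    (h : (ones n F ⬝ᵥ ((u : Matrix (Fin n) (Fin n) F) *ᵥ wv F n β) = 0) ↔
      ¬ ones n F ⬝ᵥ (((u⁻¹ : GL (Fin n) F) : Matrix (Fin n) (Fin n) F) *ᵥ wv F n β) = 0) :
    FullAxis G (ones n F) := by
  set κ := (r : F) / (minpoly F β).eval 1
  have hκ : κ ≠ 0 := div_ne_zero hr0 (hS.good.not_root 1)
  have hT := hS.mem1_wv hr
  have hT' := hT.conj huG
  rw [mulVec_smul] at hT'
  have hw : Has G (wv F n β) (ones n F) := by
    have := (has_of_prime hp hT).smul κ⁻¹
    rwa [smul_smul, inv_mul_cancel₀ hκ, one_smul] at this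
  have hdw : derv n F ⬝ᵥ wv F n β ≠ 0 := by rw [hS.good.derv_wv]; exact hS.good.not_root 1
  by_cases ht : ones n F ⬝ᵥ ((u : Matrix (Fin n) (Fin n) F) *ᵥ wv F n β) = 0
  · have hρ := h.1 ht
    have hb := hT.comm hT' (by rw [dotProduct_smul, ht, smul_zero])
    refine hS.fullAxis (fun y h1 h2 => hS.hasH hb ?_ h1 h2) hw hdw
    rw [map_smul, map_smul, dotProduct_smul, ← dotProduct_mulVec]
    exact smul_ne_zero (neg_ne_zero.2 (mul_ne_zero hκ hρ)) (smul_ne_zero hκ (hS.pv_ne_zero hu ht))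
  · have hρ : ones n F ⬝ᵥ (((u⁻¹ : GL (Fin n) F) : Matrix (Fin n) (Fin n) F) *ᵥ wv F n β) = 0 := by
      by_contra hne; exact ht (h.2 hne)
    have hb := (hT'.comm hT (by rw [dotProduct_smul, ← dotProduct_mulVec, hρ, smul_zero])).conj (inv_mem huG)
    rw [inv_inv, vecMul_vecMul, ← Units.val_mul, inv_mul_cancel, Units.val_one, vecMul_one, dotProduct_smul,
      mulVec_smul, mulVec_smul] at hb
    refine hS.fullAxis (fun y h1 h2 => hS.hasH hb ?_ h1 h2) hw hdw
    rw [map_smul, map_smul]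
    exact smul_ne_zero (neg_ne_zero.2 (mul_ne_zero hκ ht)) (smul_ne_zero hκ (hS.pv_ne_zero_inv hu hρ))

/-- The axis group of `ones` and a regular upper unipotent give everything. -/
theorem has_all (hS : Setting F n β G C) (hfull : FullAxis G (ones n F)) {u : GL (Fin n) F} (hu : RegUpper u)
    (huG : u ∈ G) : ∀ b χ : Fin n → F, χ ⬝ᵥ b = 0 → Has G b χ :=
  has_of_fullAxis hu huG (by have := hS.good.deg; omega) hfull one_ne_zero

end Setting

end Cfsg.Agent.Lib.GenSL
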