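import Cfsg.Agent.Lib.GenSL.Pair
import Cfsg.Agent.Lib.GenSL.Seed

/-! The values of the seed functionals in terms of the parameters of the pair. -/

set_option autoImplicit false

namespace Cfsg.Agent.Lib.GenSL

open Matrix Polynomial Finset Cfsg.Agent.Lib.Subspaces.Transvection

variable {n : ℕ} {F : Type*} [Field F] {K : Type*} [Field K] [Algebra F K]

/-- `g_k`. -/
noncomputable abbrev gco (F : Type*) [Field F] (n k : ℕ) : F := (gpoly F n).coeff k

/-- The shifted coefficients of `(X - 1) h`. -/
noncomputable def wsh (F : Type*) [Field F] {K : Type*} [Field K] [Algebra F K] (n : ℕ) (β : K) : Fin n → F :=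
  fun k => (wpoly F β).coeff (k.val + 1)

/-- The shifted coefficients of `(X - 1)^2 h`. -/
noncomputable def fsh (F : Type*) [Field F] {K : Type*} [Field K] [Algebra F K] (n : ℕ) (β : K) : Fin n → F :=
  fun k => (fpoly F β).coeff (k.val + 1)

/-- The parameters. -/
structure Par (F : Type*) [Field F] {K : Type*} [Field K] [Algebra F K] (n : ℕ) (β : K)
    (P : ℕ → Fin n → F) : Prop where
  good : GoodRoot F n β
  zero : ∀ k : Fin n, P 0 k = if k.val = 0 then 1 else 0
  diag : ∀ (i : ℕ) (k : Fin n), i < n - 2 → k.val = i → P i k = 1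
  upper : ∀ (i : ℕ) (k : Fin n), i < n - 2 → i < k.val → P i k = 0

/-- The column of index `n - 2`. -/
noncomputable def colW (β : K) (P : ℕ → Fin n → F) (c : ℕ → F) : Fin n → F :=
  wsh F n β - ∑ i ∈ range (n - 2), c i • P i

/-- The columns but the last. -/
noncomputable def colLow (β : K) (P : ℕ → Fin n → F) (c : ℕ → F) (j : ℕ) : Fin n → F :=
  if j < n - 2 then P j else colW β P c

/-- The last column. -/
noncomputable def colL (β : K) (P : ℕ → Fin n → F) (c : ℕ → F) : Fin n → F :=
  fsh F n β - ∑ j ∈ range (n - 1), gco F n (j + 1) • colLow β P c j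

/-- All columns. -/
noncomputable def col (β : K) (P : ℕ → Fin n → F) (c : ℕ → F) (j : ℕ) : Fin n → F :=
  if j + 1 < n then colLow β P c j else colL β P c

/-- The matrix of the columns. -/
noncomputable def pmat (β : K) (P : ℕ → Fin n → F) (c : ℕ → F) : Matrix (Fin n) (Fin n) F :=
  Matrix.of fun k j => col β P c j.val k

/-- The evaluation at one of a column. -/
noncomputable def pi1 (β : K) (P : ℕ → Fin n → F) (c : ℕ → F) (j : ℕ) : F := ones n F ⬝ᵥ col β P c j

/-- The derivative at one of a column. -/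
noncomputable def de1 (β : K) (P : ℕ → Fin n → F) (c : ℕ → F) (j : ℕ) : F := derv n F ⬝ᵥ col β P c j

/-- The coefficient next to the diagonal of a column. -/
noncomputable def dd (β : K) (P : ℕ → Fin n → F) (c : ℕ → F) (j : ℕ) : F :=
  if h : 1 ≤ j ∧ j < n then col β P c j ⟨j - 1, by omega⟩ else 0

namespace Par

variable {β : K} {P : ℕ → Fin n → F} {c : ℕ → F}

theorem four_le (h : Par F n β P) : 4 ≤ n := by
  have := h.good.two_le; have := h.good.deg; omega

theorem col_low (h : Par F n β P) {j : ℕ} (hj : j < n - 2) : col β P c j = P j := by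
  rw [col, if_pos (by omega), colLow, if_pos hj]

theorem col_W (h : Par F n β P) {j : ℕ} (hj : j + 2 = n) : col β P c j = colW β P c := by
  rw [col, if_pos (by omega), colLow, if_neg (by omega)]

theorem col_L {j : ℕ} (hj : j + 1 = n) : col β P c j = colL β P c := by
  rw [col, if_neg (by omega)]

theorem col_of_lt {j : ℕ} (hj : j + 1 < n) : col β P c j = colLow β P c j := by
  rw [col, if_pos hj]

theorem w_coeff_top (h : Par F n β P) : (wpoly F β).coeff (n - 1) = 1 := by
  have h1 := h.good.w_natDegree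
  have h2 := h.good.w_monic.coeff_natDegree
  rwa [show (wpoly F β).natDegree = n - 1 by omega] at h2

theorem w_coeff_high (h : Par F n β P) {k : ℕ} (hk : n ≤ k) : (wpoly F β).coeff k = 0 :=
  coeff_eq_zero_of_natDegree_lt (by have := h.good.w_natDegree; omega)

theorem f_coeff_top (h : Par F n β P) : (fpoly F β).coeff n = 1 := by
  have h2 := h.good.f_monic.coeff_natDegree
  rwa [h.good.f_natDegree] at h2

theorem f_coeff_high (h : Par F n β P) {k : ℕ} (hk : n < k) : (fpoly F β).coeff k = 0 :=
  coeff_eq_zero_of_natDegree_lt (by rw [h.good.f_natDegree]; omega)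

theorem sum_upper (h : Par F n β P) (k : Fin n) (hk : n - 2 ≤ k.val) :
    (∑ i ∈ range (n - 2), c i • P i) k = 0 := by
  rw [Finset.sum_apply]
  refine Finset.sum_eq_zero fun i hi => ?_
  have := Finset.mem_range.1 hi
  rw [Pi.smul_apply, h.upper i k this (by omega), smul_zero]

theorem colLow_upper (h : Par F n β P) {j : ℕ} (hj : j + 1 < n) (k : Fin n) (hk : j < k.val) :
    colLow β P c j k = 0 := by
  have := k.isLt
  rw [colLow]
  split_ifs with hl
  · exact h.upper j k hl hk
  · rw [colW, Pi.sub_apply, h.sum_upper k (by omega), wsh, h.w_coeff_high (by omega), sub_zero]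

theorem colLow_diag (h : Par F n β P) {j : ℕ} (hj : j + 1 < n) (k : Fin n) (hk : k.val = j) :
    colLow β P c j k = 1 := by
  rw [colLow]
  split_ifs with hl
  · exact h.diag j k hl hk
  · rw [colW, Pi.sub_apply, h.sum_upper k (by omega), wsh,
      show k.val + 1 = n - 1 by omega, h.w_coeff_top, sub_zero]

theorem bdata (h : Par F n β P) : BData F (fpoly F β) (pmat β P c) where
  diag i := by
    have := i.isLt
    show col β P c i.val i = 1
    by_cases hi : i.val + 1 < n
    · rw [col_of_lt hi, h.colLow_diag hi i rfl]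
    · rw [col_L (by omega), colL, Pi.sub_apply, fsh, show i.val + 1 = n by omega, h.f_coeff_top,
        Finset.sum_apply, Finset.sum_eq_zero, sub_zero]
      intro j hj
      have := Finset.mem_range.1 hj
      rw [Pi.smul_apply, h.colLow_upper (by omega) i (by omega), smul_zero]
  upper i j hij := by
    have := i.isLt
    have hlt : j.val < i.val := hij
    show col β P c j.val i = 0
    rw [col_of_lt (by omega)]
    exact h.colLow_upper (by omega) i hlt
  last k := by
    obtain ⟨m, hm⟩ : ∃ m, n = m + 1 := ⟨n - 1, by have := h.four_le; omega⟩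
    show ∑ j : Fin n, col β P c j.val k * gco F n (j.val + 1) = _
    rw [Fin.sum_univ_eq_sum_range (fun j => col β P c j k * gco F n (j + 1)) n]
    conv_lhs => rw [show range n = range (m + 1) by rw [hm]]
    rw [Finset.sum_range_succ, col_L (by omega), show gco F n (m + 1) = 1 by rw [gco, ← hm, gpoly_coeff_self],
      mul_one, colL, Pi.sub_apply, Finset.sum_apply, fsh, show n - 1 = m by omega]
    rw [add_comm, sub_add_eq_add_sub, sub_eq_iff_eq_add]
    congr 1
    refine Finset.sum_congr rfl fun j hj => ?_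
    have := Finset.mem_range.1 hj
    rw [col_of_lt (by omega), Pi.smul_apply, smul_eq_mul, mul_comm]
  zero := by rw [h.good.f_coeff_zero, gpoly_coeff_zero]

theorem pmat_super (h : Par F n β P) (i j : Fin n) (hij : i.val + 1 = j.val) :
    pmat β P c i j - shiftB (pmat β P c) i j = dd β P c (i.val + 1) - dd β P c i.val := by
  have := j.isLt
  have e1 : pmat β P c i j = dd β P c (i.val + 1) := by
    rw [dd, dif_pos ⟨by omega, by omega⟩]
    show col β P c j.val i = _
    exact congrArg₂ (fun a b => col β P c a b) hij.symm (Fin.ext (by simp only; omega))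
  rw [e1]
  congr 1
  rw [shiftB, Matrix.of_apply, if_neg (by omega)]
  by_cases hi : i.val = 0
  · rw [if_pos hi, dd, dif_neg (by omega)]
  · rw [if_neg hi, dd, dif_pos ⟨by omega, by omega⟩]
    show col β P c (j.val - 1) _ = _
    rw [show j.val - 1 = i.val by omega]

theorem dd_low (h : Par F n β P) {j : ℕ} (hj : j < n - 2) :
    dd β P c j = if hz : 1 ≤ j then P j ⟨j - 1, by omega⟩ else 0 := by
  by_cases hz : 1 ≤ j
  · rw [dd, dif_pos ⟨hz, by omega⟩, dif_pos hz, h.col_low hj]
  · rw [dd, dif_neg (by omega), dif_neg hz]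

theorem dd_W (h : Par F n β P) : dd β P c (n - 2) = (wpoly F β).coeff (n - 2) - c (n - 3) := by
  have := h.four_le
  rw [dd, dif_pos ⟨by omega, by omega⟩, h.col_W (by omega), colW, Pi.sub_apply, wsh, Finset.sum_apply,
    Finset.sum_eq_single (n - 3)]
  · rw [Pi.smul_apply, h.diag (n - 3) _ (by omega) (by simp only; omega), smul_eq_mul, mul_one]
    congr 2; simp only; omega
  · intro b hb hne
    have := Finset.mem_range.1 hb
    rw [Pi.smul_apply, h.upper b _ this (by simp only; omega), smul_zero]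
  · intro hb; exact absurd (Finset.mem_range.2 (by omega)) hb

theorem dd_L (h : Par F n β P) : dd β P c (n - 1) = (fpoly F β).coeff (n - 1) + n := by
  have := h.four_le
  rw [dd, dif_pos ⟨by omega, by omega⟩, col_L (by omega), colL, Pi.sub_apply, fsh, Finset.sum_apply,
    Finset.sum_eq_single (n - 2)]
  · rw [Pi.smul_apply, h.colLow_diag (by omega) _ (by simp only; omega), smul_eq_mul, mul_one]
    simp only [gco, show n - 2 + 1 = n - 1 by omega, show n - 1 - 1 + 1 = n - 1 by omega]
    rw [gpoly_coeff_pred n (by omega)]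
    ring
  · intro b hb hne
    have := Finset.mem_range.1 hb
    rw [Pi.smul_apply, h.colLow_upper (by omega) _ (by simp only; omega), smul_zero]
  · intro hb; exact absurd (Finset.mem_range.2 (by omega)) hb

theorem ones_wsh (h : Par F n β P) : ones n F ⬝ᵥ wsh F n β = (-1) ^ n := by
  have h1 := h.good.ones_wv
  obtain ⟨m, rfl⟩ : ∃ m, n = m + 1 := ⟨n - 1, by have := h.four_le; omega⟩
  simp only [dotProduct, ones, one_mul, wv] at h1 ⊢
  rw [Fin.sum_univ_succ] at h1
  rw [Fin.sum_univ_castSucc]
  simp only [wsh, Fin.val_castSucc, Fin.val_last, Fin.val_succ, Fin.val_zero] at h1 ⊢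
  rw [h.w_coeff_high le_rfl, add_zero]
  rw [h.good.w_coeff_zero] at h1
  linear_combination h1

theorem derv_wsh (h : Par F n β P) :
    derv n F ⬝ᵥ wsh F n β = (minpoly F β).eval 1 - (-1) ^ n := by
  have h1 := h.good.derv_wv
  have h2 := h.ones_wsh
  obtain ⟨m, rfl⟩ : ∃ m, n = m + 1 := ⟨n - 1, by have := h.four_le; omega⟩
  rw [← h1]
  conv_rhs => rw [← h2]
  simp only [dotProduct, derv, wv, ones, one_mul]
  rw [Fin.sum_univ_castSucc, Fin.sum_univ_succ (f := fun i : Fin (m + 1) => (i.val : F) * (wpoly F β).coeff i.val),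
    Fin.sum_univ_castSucc (f := fun i : Fin (m + 1) => wsh F (m + 1) β i)]
  simp only [wsh, Fin.val_castSucc, Fin.val_last, Fin.val_succ, Fin.val_zero, Nat.cast_zero, zero_mul, zero_add,
    h.w_coeff_high le_rfl, mul_zero, add_zero, ← Finset.sum_sub_distrib]
  refine Finset.sum_congr rfl fun i _ => ?_
  push_cast; ring

theorem fsh_eq (h : Par F n β P) : fsh F n β = wv F n β - wsh F n β := by
  funext k
  rw [fsh, h.good.f_coeff_succ]; rfl

theorem pi_W (h : Par F n β P) :
    pi1 β P c (n - 2) = (-1) ^ n - ∑ i ∈ range (n - 2), c i * pi1 β P c i := by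
  have := h.four_le
  rw [pi1, h.col_W (by omega), colW, dotProduct_sub, h.ones_wsh, dotProduct_sum]
  congr 1
  refine Finset.sum_congr rfl fun i hi => ?_
  rw [dotProduct_smul, smul_eq_mul, pi1, h.col_low (Finset.mem_range.1 hi)]

theorem de_W (h : Par F n β P) :
    de1 β P c (n - 2) = (minpoly F β).eval 1 - (-1) ^ n - ∑ i ∈ range (n - 2), c i * de1 β P c i := by
  have := h.four_le
  rw [de1, h.col_W (by omega), colW, dotProduct_sub, h.derv_wsh, dotProduct_sum]
  congr 1
  refine Finset.sum_congr rfl fun i hi => ?_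
  rw [dotProduct_smul, smul_eq_mul, de1, h.col_low (Finset.mem_range.1 hi)]

theorem pi_L (h : Par F n β P) :
    pi1 β P c (n - 1) = -(-1) ^ n - ∑ i ∈ range (n - 2), gco F n (i + 1) * pi1 β P c i
      + n * pi1 β P c (n - 2) := by
  have := h.four_le
  rw [pi1, col_L (by omega), colL, dotProduct_sub, h.fsh_eq, dotProduct_sub, h.good.ones_wv, h.ones_wsh,
    dotProduct_sum, show n - 1 = n - 2 + 1 by omega, Finset.sum_range_succ, dotProduct_smul, smul_eq_mul,
    show colLow β P c (n - 2) = col β P c (n - 2) from (col_of_lt (by omega)).symm,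
    show gco F n (n - 2 + 1) = -(n : F) by rw [show n - 2 + 1 = n - 1 by omega]; exact gpoly_coeff_pred n (by omega)]
  rw [show ∑ i ∈ range (n - 2), ones n F ⬝ᵥ gco F n (i + 1) • colLow β P c i =
    ∑ i ∈ range (n - 2), gco F n (i + 1) * pi1 β P c i from Finset.sum_congr rfl fun i hi => by
      have := Finset.mem_range.1 hi
      rw [dotProduct_smul, smul_eq_mul, pi1, col_of_lt (by omega)]]
  rw [← pi1]
  ring

theorem de_L (h : Par F n β P) :
    de1 β P c (n - 1) = (-1) ^ n - ∑ i ∈ range (n - 2), gco F n (i + 1) * de1 β P c i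
      + n * de1 β P c (n - 2) := by
  have := h.four_le
  rw [de1, col_L (by omega), colL, dotProduct_sub, h.fsh_eq, dotProduct_sub, h.good.derv_wv, h.derv_wsh,
    dotProduct_sum, show n - 1 = n - 2 + 1 by omega, Finset.sum_range_succ, dotProduct_smul, smul_eq_mul,
    show colLow β P c (n - 2) = col β P c (n - 2) from (col_of_lt (by omega)).symm,
    show gco F n (n - 2 + 1) = -(n : F) by rw [show n - 2 + 1 = n - 1 by omega]; exact gpoly_coeff_pred n (by omega)]
  rw [show ∑ i ∈ range (n - 2), derv n F ⬝ᵥ gco F n (i + 1) • colLow β P c i =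
    ∑ i ∈ range (n - 2), gco F n (i + 1) * de1 β P c i from Finset.sum_congr rfl fun i hi => by
      have := Finset.mem_range.1 hi
      rw [dotProduct_smul, smul_eq_mul, de1, col_of_lt (by omega)]]
  rw [← de1]
  ring

variable {u v : Matrix.SpecialLinearGroup (Fin n) F}

theorem v_col (h : Par F n β P) (hp : PairData (fpoly F β) (pmat β P c) u v) {j : ℕ} (hj : j + 1 < n) :
    (v : Matrix (Fin n) (Fin n) F) *ᵥ col β P c j = col β P c (j + 1) :=
  hp.vcol ⟨j, by omega⟩ ⟨j + 1, hj⟩ rfl

theorem v_col_last (h : Par F n β P) (hp : PairData (fpoly F β) (pmat β P c) u v) :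
    (v : Matrix (Fin n) (Fin n) F) *ᵥ col β P c (n - 1) = -∑ j ∈ range n, gco F n j • col β P c j := by
  have := h.four_le
  have h1 := hp.vlast ⟨n - 1, by omega⟩ (by simp only; omega)
  refine h1.trans ?_
  funext k
  rw [Pi.neg_apply, Finset.sum_apply, Finset.sum_range, ← Finset.sum_neg_distrib, Matrix.mulVec, dotProduct]
  refine Finset.sum_congr rfl fun j _ => ?_
  rw [Pi.smul_apply, smul_eq_mul, pmat, Matrix.of_apply, gco]
  ring

theorem wv_decomp (h : Par F n β P) :
    wv F n β = col β P c (n - 1) + col β P c (n - 2) + ∑ j ∈ range (n - 1), gco F n (j + 1) • col β P c j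
      + ∑ i ∈ range (n - 2), c i • col β P c i := by
  have := h.four_le
  rw [col_L (show n - 1 + 1 = n by omega), h.col_W (show n - 2 + 2 = n by omega), colL, colW]
  have e1 : ∑ j ∈ range (n - 1), gco F n (j + 1) • col β P c j =
      ∑ j ∈ range (n - 1), gco F n (j + 1) • colLow β P c j :=
    Finset.sum_congr rfl fun j hj => by rw [col_of_lt (by have := Finset.mem_range.1 hj; omega)]
  have e2 : ∑ i ∈ range (n - 2), c i • col β P c i = ∑ i ∈ range (n - 2), c i • P i :=
    Finset.sum_congr rfl fun i hi => by rw [h.col_low (Finset.mem_range.1 hi)]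
  rw [e1, e2]
  rw [h.fsh_eq]
  abel

theorem u_wv (h : Par F n β P) (hp : PairData (fpoly F β) (pmat β P c) u v) :
    (u : Matrix (Fin n) (Fin n) F) *ᵥ wv F n β = (-(-1 : F) ^ n) • col β P c 0 + col β P c (n - 1) +
      ∑ i ∈ range (n - 2), c i • col β P c (i + 1) := by
  have h4 := h.four_le
  have e : (v : Matrix (Fin n) (Fin n) F) *ᵥ wv F n β = (u : Matrix (Fin n) (Fin n) F) *ᵥ wv F n β := by
    have e1 : (v : Matrix (Fin n) (Fin n) F) = (u : Matrix (Fin n) (Fin n) F) *
        ((u⁻¹ * v : Matrix.SpecialLinearGroup (Fin n) F) : Matrix (Fin n) (Fin n) F) := by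
      rw [← Matrix.SpecialLinearGroup.coe_mul, mul_inv_cancel_left]
    rw [e1, hp.comp, ← mulVec_mulVec, h.good.cm_wv]
  rw [← e]
  conv_lhs => rw [h.wv_decomp (c := c)]
  rw [mulVec_add, mulVec_add, mulVec_add, h.v_col_last hp, h.v_col hp (show n - 2 + 1 < n by omega),
    mulVec_sum, mulVec_sum]
  rw [Finset.sum_congr rfl (s₁ := range (n - 1)) (g := fun j => gco F n (j + 1) • col β P c (j + 1)) (fun j hj => by
    rw [mulVec_smul, h.v_col hp (by have := Finset.mem_range.1 hj; omega)])]
  rw [Finset.sum_congr rfl (s₁ := range (n - 2)) (g := fun i => c i • col β P c (i + 1)) (fun i hi => by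
    rw [mulVec_smul, h.v_col hp (by have := Finset.mem_range.1 hi; omega)])]
  have hs := Finset.sum_range_succ' (fun j => gco F n j • col β P c j) (n - 1)
  rw [show n - 1 + 1 = n by omega] at hs
  rw [hs, show gco F n 0 = (-1) ^ n from gpoly_coeff_zero n, show n - 2 + 1 = n - 1 by omega, neg_smul]
  generalize ((-1 : F) ^ n) • col β P c 0 = x
  generalize ∑ k ∈ range (n - 1), gco F n (k + 1) • col β P c (k + 1) = y
  abel

theorem t_eq (h : Par F n β P) (hp : PairData (fpoly F β) (pmat β P c) u v) :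
    ones n F ⬝ᵥ ((u : Matrix (Fin n) (Fin n) F) *ᵥ wv F n β) =
      -(-1) ^ n * pi1 β P c 0 + pi1 β P c (n - 1) + ∑ i ∈ range (n - 2), c i * pi1 β P c (i + 1) := by
  rw [h.u_wv hp, dotProduct_add, dotProduct_add, dotProduct_smul, dotProduct_sum]
  simp only [dotProduct_smul, smul_eq_mul, pi1]

theorem d_eq (h : Par F n β P) (hp : PairData (fpoly F β) (pmat β P c) u v) :
    derv n F ⬝ᵥ ((u : Matrix (Fin n) (Fin n) F) *ᵥ wv F n β) =
      -(-1) ^ n * de1 β P c 0 + de1 β P c (n - 1) + ∑ i ∈ range (n - 2), c i * de1 β P c (i + 1) := by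
  rw [h.u_wv hp, dotProduct_add, dotProduct_add, dotProduct_smul, dotProduct_sum]
  simp only [dotProduct_smul, smul_eq_mul, de1]

theorem pi_zero (h : Par F n β P) : pi1 β P c 0 = 1 := by
  have := h.four_le
  rw [pi1, h.col_low (by omega), dotProduct, Finset.sum_eq_single ⟨0, by omega⟩]
  · simp [ones, h.zero]
  · intro b _ hb
    rw [h.zero, if_neg (fun e => hb (Fin.ext e)), mul_zero]
  · simp

theorem de_zero (h : Par F n β P) : de1 β P c 0 = 0 := by
  have := h.four_le
  rw [de1, h.col_low (by omega), dotProduct]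
  refine Finset.sum_eq_zero fun b _ => ?_
  rw [h.zero]
  by_cases hb : b.val = 0
  · simp [derv, hb]
  · rw [if_neg hb, mul_zero]

/-- The functional `ones ∘ u⁻¹` on the columns. -/
theorem phi_succ (h : Par F n β P) (hp : PairData (fpoly F β) (pmat β P c) u v) {j : ℕ} (hj : j + 1 < n) :
    ones n F ⬝ᵥ (((u⁻¹ : Matrix.SpecialLinearGroup (Fin n) F) : Matrix (Fin n) (Fin n) F) *ᵥ col β P c (j + 1)) =
      pi1 β P c j := by
  rw [← h.v_col hp hj, mulVec_mulVec, ← Matrix.SpecialLinearGroup.coe_mul, hp.comp, (h.good.cm_coords _).1]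
  rfl

theorem phi_zero (h : Par F n β P) (hp : PairData (fpoly F β) (pmat β P c) u v) :
    ones n F ⬝ᵥ (((u⁻¹ : Matrix.SpecialLinearGroup (Fin n) F) : Matrix (Fin n) (Fin n) F) *ᵥ col β P c 0) = 1 := by
  have h4 := h.four_le
  have e : col β P c 0 = Pi.single ⟨0, by omega⟩ 1 := by
    rw [h.col_low (by omega)]
    funext k
    rw [h.zero]
    simp [Pi.single_apply, Fin.ext_iff]
  have e1 := hp.ufix ⟨0, by omega⟩ rfl
  rw [e]
  conv_lhs => rw [← e1]
  rw [mulVec_mulVec, ← Matrix.SpecialLinearGroup.coe_mul, inv_mul_cancel, Matrix.SpecialLinearGroup.coe_one,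
    one_mulVec, dotProduct_single, mul_one]
  rfl

theorem rho_eq (h : Par F n β P) (hp : PairData (fpoly F β) (pmat β P c) u v) :
    ones n F ⬝ᵥ (((u⁻¹ : Matrix.SpecialLinearGroup (Fin n) F) : Matrix (Fin n) (Fin n) F) *ᵥ wv F n β) =
      pi1 β P c (n - 2) + pi1 β P c (n - 3) + gco F n 1 + (∑ j ∈ range (n - 2), gco F n (j + 2) * pi1 β P c j)
        + c 0 + ∑ i ∈ range (n - 3), c (i + 1) * pi1 β P c i := by
  have h4 := h.four_le
  conv_lhs => rw [h.wv_decomp (c := c)]
  rw [mulVec_add, mulVec_add, mulVec_add, mulVec_sum, mulVec_sum, dotProduct_add, dotProduct_add, dotProduct_add,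
    dotProduct_sum, dotProduct_sum]
  simp only [mulVec_smul, dotProduct_smul, smul_eq_mul]
  have e1 : ∑ j ∈ range (n - 1), gco F n (j + 1) * (ones n F ⬝ᵥ
      (((u⁻¹ : Matrix.SpecialLinearGroup (Fin n) F) : Matrix (Fin n) (Fin n) F) *ᵥ col β P c j)) =
      (∑ j ∈ range (n - 2), gco F n (j + 2) * pi1 β P c j) + gco F n 1 := by
    rw [show n - 1 = n - 2 + 1 by omega, Finset.sum_range_succ', h.phi_zero hp, mul_one]
    congr 1
    refine Finset.sum_congr rfl fun j hj => ?_
    rw [h.phi_succ hp (by have := Finset.mem_range.1 hj; omega)]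
  have e2 : ∑ j ∈ range (n - 2), c j * (ones n F ⬝ᵥ
      (((u⁻¹ : Matrix.SpecialLinearGroup (Fin n) F) : Matrix (Fin n) (Fin n) F) *ᵥ col β P c j)) =
      (∑ i ∈ range (n - 3), c (i + 1) * pi1 β P c i) + c 0 := by
    rw [show n - 2 = n - 3 + 1 by omega, Finset.sum_range_succ', h.phi_zero hp, mul_one]
    congr 1
    refine Finset.sum_congr rfl fun j hj => ?_
    rw [h.phi_succ hp (by have := Finset.mem_range.1 hj; omega)]
  rw [e1, e2, show n - 1 = n - 2 + 1 by omega, h.phi_succ hp (by omega),
    show n - 2 = n - 3 + 1 by omega, h.phi_succ hp (by omega)]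
  ring

/-- The setting for the group generated by the pair. -/
theorem setting (h : Par F n β P) (hp : PairData (fpoly F β) (pmat β P c) u v)
    (hgen : ∀ A : Subring K, β ∈ A → A = ⊤) :
    Setting F n β ((Subgroup.closure ({u, v} : Set (Matrix.SpecialLinearGroup (Fin n) F))).map
      Matrix.SpecialLinearGroup.toGL) (Matrix.SpecialLinearGroup.toGL (u⁻¹ * v)) := by
  refine ⟨h.good, Subgroup.mem_map_of_mem _ ?_, hp.comp, hgen⟩
  exact mul_mem (inv_mem (Subgroup.subset_closure (by simp))) (Subgroup.subset_closure (by simp))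

end Par

/-- From a full axis to generation. -/
theorem Setting.closure_eq_top {β : K} {C : GL (Fin n) F} {u v : Matrix.SpecialLinearGroup (Fin n) F}
    (hS : Setting F n β ((Subgroup.closure ({u, v} : Set (Matrix.SpecialLinearGroup (Fin n) F))).map
      Matrix.SpecialLinearGroup.toGL) C)
    (hu : RegUpper (Matrix.SpecialLinearGroup.toGL u))
    (hfull : FullAxis ((Subgroup.closure ({u, v} : Set (Matrix.SpecialLinearGroup (Fin n) F))).map
      Matrix.SpecialLinearGroup.toGL) (ones n F)) :
    Subgroup.closure ({u, v} : Set (Matrix.SpecialLinearGroup (Fin n) F)) = ⊤ :=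
  eq_top_of_has (by have := hS.good.deg; omega) _
    (hS.has_all hfull hu (Subgroup.mem_map_of_mem _ (Subgroup.subset_closure (by simp))))

end Cfsg.Agent.Lib.GenSL
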