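import Cfsg.Agent.Lib.GenSL.GoodRoots

/-! Quadratic extensions given by `X ^ 2 + a X + 1`. -/

set_option autoImplicit false

namespace Cfsg.Agent.Lib.GenSL

open Polynomial

universe u

variable {F : Type u} [Field F]

/-- A root of an irreducible `X ^ 2 + a X + 1` generating a field. -/
theorem exists_quadratic (hp : ∀ x : F, ∃ k : ℕ, (k : F) = x) (a : F) (h : ∀ x : F, x ^ 2 + a * x + 1 ≠ 0) :
    ∃ (K : Type u) (_ : Field K) (_ : Algebra F K) (β : K),
      GoodRoot F 4 β ∧ (∀ A : Subring K, β ∈ A → A = ⊤) ∧ (minpoly F β).eval 1 = 2 + a ∧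
        β ^ 2 + algebraMap F K a * β + 1 = 0 ∧ minpoly F β = X ^ 2 + C a * X + 1 := by
  set f : F[X] := X ^ 2 + C a * X + 1 with hf
  have hmon : f.Monic := by rw [hf]; monicity!
  have hdeg : f.natDegree = 2 := by rw [hf]; compute_degree!
  have hirr : Irreducible f := by
    rw [irreducible_iff_roots_eq_zero_of_degree_le_three hdeg.ge (by omega)]
    refine Multiset.eq_zero_of_forall_notMem fun x hx => ?_
    rw [mem_roots hmon.ne_zero] at hx
    exact h x (by simpa [hf] using hx)
  haveI := Fact.mk hirr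
  refine ⟨AdjoinRoot f, inferInstance, inferInstance, AdjoinRoot.root f, ?_, ?_, ?_, ?_, ?_⟩
  · have hrank : Module.finrank F (AdjoinRoot f) = 2 := by
      rw [(AdjoinRoot.powerBasis hmon.ne_zero).finrank]; exact hdeg
    have hmin : minpoly F (AdjoinRoot.root f) = f := by
      rw [AdjoinRoot.minpoly_root hmon.ne_zero, hmon.leadingCoeff, inv_one, C_1, mul_one]
    refine ⟨by rw [hmin, hdeg], by rw [hmin, hdeg], by rw [hrank, hmin, hdeg], ?_⟩
    rw [hmin, hf]
    norm_num [coeff_one, coeff_X_pow]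
  · exact gen_of_adjoin_top hp AdjoinRoot.adjoinRoot_eq_top
  · rw [AdjoinRoot.minpoly_root hmon.ne_zero, hmon.leadingCoeff, inv_one, C_1, mul_one, hf]
    simp; ring
  · have h0 := AdjoinRoot.eval₂_root f
    simpa [hf, AdjoinRoot.algebraMap_eq] using h0
  · rw [AdjoinRoot.minpoly_root hmon.ne_zero, hmon.leadingCoeff, inv_one, C_1, mul_one]

end Cfsg.Agent.Lib.GenSL
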