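import Cfsg.Agent.Lib.GenSL.SeedUse
import Cfsg.Agent.Lib.GenSL.Quadratic

/-! `SL(4, 3)` is generated by two conjugate regular unipotents. -/

set_option autoImplicit false

namespace Cfsg.Agent.Lib.GenSL

open Matrix Polynomial Cfsg.Agent.Lib.Subspaces.Transvection

theorem RegUpper.isRegU {n : ℕ} {F : Type*} [Field F] {u : Matrix.SpecialLinearGroup (Fin n) F}
    (h : RegUpper (Matrix.SpecialLinearGroup.toGL u)) (hn : 1 ≤ n) : IsRegU n u := by
  let s : ℕ → F := fun i => if hi : i + 1 < n then (u : Matrix (Fin n) (Fin n) F) ⟨i, by omega⟩ ⟨i + 1, hi⟩ else 1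
  have hs : ∀ i j : Fin n, i.val + 1 = j.val → (u : Matrix (Fin n) (Fin n) F) i j = s i.val := by
    intro i j hij
    have := j.isLt
    simp only [s, dif_pos (show i.val + 1 < n by omega)]
    exact congrArg ((u : Matrix (Fin n) (Fin n) F) i) (Fin.ext hij.symm)
  obtain ⟨M, hM, hdet⟩ := h.exists_jordan hn s hs
  refine regular_of_jordan hn ?_ hM
  rw [hdet, Finset.prod_ne_zero_iff]
  intro l hl
  have hl' : l + 1 < n := by have := Finset.mem_range.1 hl; omega
  refine pow_ne_zero _ ?_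
  simp only [s, dif_pos hl']
  exact h.super _ _ rfl

/-- The first generator. -/
def u43 : Matrix.SpecialLinearGroup (Fin 4) (ZMod 3) :=
  ⟨!![1, 2, 2, 2; 0, 1, 1, 2; 0, 0, 1, 2; 0, 0, 0, 1], by decide +kernel⟩

/-- The conjugating element. -/
def g43 : Matrix.SpecialLinearGroup (Fin 4) (ZMod 3) :=
  ⟨!![2, 1, 0, 0; 1, 0, 1, 0; 1, 0, 0, 0; 2, 1, 2, 1], by decide +kernel⟩

theorem conjGen_three_four : ConjGen (ZMod 3) 4 := by
  have hp : ∀ x : ZMod 3, ∃ k : ℕ, (k : ZMod 3) = x := fun x => ⟨x.val, ZMod.natCast_zmod_val x⟩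
  obtain ⟨K, iK, iA, β, hβ, hgen, _, hroot, hmin⟩ := exists_quadratic hp (0 : ZMod 3) (by decide)
  set u := u43
  set g := g43
  set v := g * u * g⁻¹ with hv
  set G := (Subgroup.closure ({u, v} : Set (Matrix.SpecialLinearGroup (Fin 4) (ZMod 3)))).map
    Matrix.SpecialLinearGroup.toGL
  have hu : RegUpper (Matrix.SpecialLinearGroup.toGL u) := ⟨by decide +kernel, by intro i; fin_cases i <;> decide +kernel, by intro i; fin_cases i <;> decide +kernel⟩
  have hu2 : RegUpper (Matrix.SpecialLinearGroup.toGL (u * u)) := ⟨by decide +kernel, by intro i; fin_cases i <;> decide +kernel, by intro i; fin_cases i <;> decide +kernel⟩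
  have huG : Matrix.SpecialLinearGroup.toGL u ∈ G := Subgroup.mem_map_of_mem _ (Subgroup.subset_closure (by simp))
  have hu2G : Matrix.SpecialLinearGroup.toGL (u * u) ∈ G := by rw [map_mul]; exact mul_mem huG huG
  have hf : fpoly (ZMod 3) β = X ^ 4 - C 2 * X ^ 3 + C 2 * X ^ 2 - C 2 * X + 1 := by
    rw [fpoly, hmin, map_zero, zero_mul, add_zero, C_1]
    simp only [map_ofNat]
    ring
  have hw : wv (ZMod 3) 4 β = ![2, 1, 2, 1] := by
    have : wpoly (ZMod 3) β = X ^ 3 - X ^ 2 + X - 1 := by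
      rw [wpoly, hmin, map_zero, zero_mul, add_zero, C_1]; ring
    funext i
    show (wpoly (ZMod 3) β).coeff i.val = _
    rw [this]
    simp only [coeff_add, coeff_sub, coeff_X_pow, coeff_X, coeff_one]
    revert i; decide +kernel
  let C43 : Matrix.SpecialLinearGroup (Fin 4) (ZMod 3) :=
    ⟨!![0, 0, 0, 2; 1, 0, 0, 2; 0, 1, 0, 1; 0, 0, 1, 2], by
      decide +kernel⟩
  have hC : u⁻¹ * v = C43 := by
    rw [inv_mul_eq_iff_eq_mul, hv, mul_inv_eq_iff_eq_mul]
    refine Subtype.ext ?_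
    show (g43 : Matrix (Fin 4) (Fin 4) (ZMod 3)) * (u43 : Matrix (Fin 4) (Fin 4) (ZMod 3)) = _
    decide +kernel
  have hS : Setting (ZMod 3) 4 β G (Matrix.SpecialLinearGroup.toGL (u⁻¹ * v)) := by
    refine ⟨hβ, Subgroup.mem_map_of_mem _ (mul_mem (inv_mem (Subgroup.subset_closure (by simp)))
      (Subgroup.subset_closure (by simp))), ?_, hgen⟩
    rw [hC]
    ext i j
    show (C43 : Matrix (Fin 4) (Fin 4) (ZMod 3)) i j = _
    simp only [cm, Matrix.of_apply, hf, coeff_add, coeff_sub, coeff_C_mul, coeff_X_pow, coeff_X, coeff_one]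
    fin_cases i <;> fin_cases j <;> decide +kernel
  have hinv : (u * u)⁻¹ = (⟨!![1, 2, 2, 1; 0, 1, 1, 2; 0, 0, 1, 2; 0, 0, 0, 1], by decide +kernel⟩ : Matrix.SpecialLinearGroup (Fin 4) (ZMod 3)) := by
    refine inv_eq_of_mul_eq_one_right (Subtype.ext ?_)
    decide +kernel
  have hr : β ^ 4 = 1 := by
    rw [map_zero, zero_mul, add_zero] at hroot
    linear_combination (β ^ 2 - 1) * hroot
  have hfull := hS.full_of_prime hp hr (by decide) hu2 hu2G (by
    show (ones 4 (ZMod 3) ⬝ᵥ (((u * u : Matrix.SpecialLinearGroup (Fin 4) (ZMod 3)) :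
      Matrix (Fin 4) (Fin 4) (ZMod 3)) *ᵥ wv (ZMod 3) 4 β) = 0) ↔
      ¬ ones 4 (ZMod 3) ⬝ᵥ ((((u * u)⁻¹ : Matrix.SpecialLinearGroup (Fin 4) (ZMod 3)) :
        Matrix (Fin 4) (Fin 4) (ZMod 3)) *ᵥ wv (ZMod 3) 4 β) = 0
    rw [hinv, hw]
    decide +kernel)
  exact ⟨u, g, hu.isRegU (by norm_num), hS.closure_eq_top hu hfull⟩

/-- Transport along a bijection of fields. -/
theorem ConjGen.map {n : ℕ} {F E : Type*} [Field F] [Field E] (e : F ≃+* E) (h : ConjGen F n) : ConjGen E n := by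
  obtain ⟨u, g, ⟨hnil, hne⟩, hg⟩ := h
  let φ := Matrix.SpecialLinearGroup.map (n := Fin n) e.toRingHom
  have hsurj : Function.Surjective φ := fun A =>
    ⟨Matrix.SpecialLinearGroup.map e.symm.toRingHom A, by
      refine Subtype.ext ?_
      ext i j
      simp [φ]⟩
  have hcoe : ∀ A : Matrix.SpecialLinearGroup (Fin n) F, (φ A : Matrix (Fin n) (Fin n) E) - 1 =
      e.toRingHom.mapMatrix ((A : Matrix (Fin n) (Fin n) F) - 1) := fun A => by
    rw [map_sub, map_one]; rfl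
  refine ⟨φ u, φ g, ⟨?_, ?_⟩, ?_⟩
  · rw [hcoe]; exact hnil.map _
  · rw [hcoe, ← map_pow]
    intro h0
    refine hne ?_
    ext i j
    exact e.injective (by simpa using congrFun (congrFun h0 i) j)
  · rw [← map_inv, ← map_mul, ← map_mul, show ({φ u, φ (g * u * g⁻¹)} : Set _) = φ '' {u, g * u * g⁻¹} by
      rw [Set.image_pair], ← MonoidHom.map_closure, hg, Subgroup.map_top_of_surjective φ hsurj]

end Cfsg.Agent.Lib.GenSL
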