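import Cfsg.Agent.Lib.GenSL.Four
import Cfsg.Agent.Lib.GenSL.GoodRoots
import Cfsg.Agent.Lib.GenSL.ThreeFour

/-! Generation of `SL_n(F)` by two regular unipotents. -/

set_option autoImplicit false

namespace Cfsg.Agent.Lib.GenSL

open Polynomial Finset

variable {F : Type*} [Field F] [Finite F]

/-- The root used in the construction: norm one. -/
theorem exists_root_norm {n : ℕ} (hn : 4 ≤ n) :
    ∃ (K : Type) (_ : Field K) (_ : Algebra F K) (β : K), GoodRoot F n β ∧ (∀ A : Subring K, β ∈ A → A = ⊤) ∧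
      ∃ r : ℕ, β ^ r = 1 ∧ (r : F) ≠ 0 := by
  classical
  set p := ringChar F with hpdef
  haveI : CharP F p := ringChar.charP F
  haveI : Fact p.Prime := ⟨CharP.char_is_prime F p⟩
  haveI : NeZero (n - 2) := ⟨by omega⟩
  set K := FiniteField.Extension F p (n - 2)
  have hK : Module.finrank F K = n - 2 := FiniteField.finrank_extension F p (n - 2)
  obtain ⟨β, hN, hgen⟩ := exists_norm_one (F := F) (K := K) (by omega)
  have htop := adjoin_top_of_gen (F := F) hgen
  have hβ : GoodRoot F n β := goodRoot (by omega) (by omega) htop (coeff_zero_of_norm (by omega) htop hN)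
  haveI : Fintype K := Fintype.ofFinite K
  refine ⟨K, inferInstance, inferInstance, β, hβ, hgen, Fintype.card K - 1,
    FiniteField.pow_card_sub_one_eq_one β hβ.ne_zero, ?_⟩
  have hcard : ((Fintype.card K : ℕ) : F) = 0 := by
    rw [← Nat.card_eq_fintype_card, FiniteField.natCard_extension, Nat.cast_pow]
    haveI := Fintype.ofFinite F
    rw [Nat.card_eq_fintype_card, Nat.cast_card_eq_zero, zero_pow (by omega)]
  rw [Nat.cast_sub Fintype.card_pos, hcard, Nat.cast_one, zero_sub]
  exact neg_ne_zero.2 one_ne_zero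

theorem two_eq_zero_cases (hp' : ∀ x : F, ∃ k : ℕ, (k : F) = x) (h2 : (2 : F) = 0) (x : F) : x = 0 ∨ x = 1 := by
  obtain ⟨k, rfl⟩ := hp' x
  rcases Nat.even_or_odd k with ⟨j, rfl⟩ | ⟨j, rfl⟩
  · left; push_cast; linear_combination (j : F) * h2
  · right; push_cast; linear_combination (j : F) * h2

/-- The root used in characteristic two: trace one. -/
theorem exists_root_trace (hp' : ∀ x : F, ∃ k : ℕ, (k : F) = x) (h2 : (2 : F) = 0) {n : ℕ} (hn : 4 ≤ n) :
    ∃ (K : Type) (_ : Field K) (_ : Algebra F K) (β : K), GoodRoot F n β ∧ (∀ A : Subring K, β ∈ A → A = ⊤) ∧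
      (∃ r : ℕ, β ^ r = 1 ∧ (r : F) ≠ 0) ∧ (minpoly F β).coeff (n - 3) = 1 := by
  classical
  set p := ringChar F with hpdef
  haveI : CharP F p := ringChar.charP F
  haveI : Fact p.Prime := ⟨CharP.char_is_prime F p⟩
  haveI : NeZero (n - 2) := ⟨by omega⟩
  set K := FiniteField.Extension F p (n - 2)
  have hK : Module.finrank F K = n - 2 := FiniteField.finrank_extension F p (n - 2)
  obtain ⟨β, hT, htop⟩ := exists_trace_ne_zero (F := F) (K := K)
  have hd := natDegree_of_adjoin_top htop
  have hne : (minpoly F β).coeff 0 ≠ 0 := by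
    refine minpoly.coeff_zero_ne_zero (IsIntegral.of_finite F β) ?_
    rintro rfl
    exact hT (map_zero _)
  have h0 : (minpoly F β).coeff 0 = (-1) ^ n := by
    rcases two_eq_zero_cases hp' h2 ((minpoly F β).coeff 0) with e | e
    · exact absurd e hne
    · rw [e, show (-1 : F) = 1 by linear_combination -h2, one_pow]
  have hβ : GoodRoot F n β := goodRoot (by omega) (by omega) htop h0
  haveI : Fintype K := Fintype.ofFinite K
  refine ⟨K, inferInstance, inferInstance, β, hβ, gen_of_adjoin_top hp' htop, ⟨Fintype.card K - 1,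
    FiniteField.pow_card_sub_one_eq_one β hβ.ne_zero, ?_⟩, ?_⟩
  · have hcard : ((Fintype.card K : ℕ) : F) = 0 := by
      rw [← Nat.card_eq_fintype_card, FiniteField.natCard_extension, Nat.cast_pow]
      haveI := Fintype.ofFinite F
      rw [Nat.card_eq_fintype_card, Nat.cast_card_eq_zero, zero_pow (by omega)]
    rw [Nat.cast_sub Fintype.card_pos, hcard, Nat.cast_one, zero_sub]
    exact neg_ne_zero.2 one_ne_zero
  · rw [trace_of_adjoin_top htop, nextCoeff_of_natDegree_pos (by omega)] at hT
    rw [show n - 3 = (minpoly F β).natDegree - 1 by omega]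
    exact (two_eq_zero_cases hp' h2 _).resolve_left (fun e => hT (by rw [e, neg_zero]))

theorem sum_mid {n : ℕ} (hn : 5 ≤ n) (f : ℕ → F) :
    ∑ l ∈ range (n - 1), f l = f 0 + f 1 + f 2 + ∑ l ∈ Finset.Ico 3 (n - 2), f l + f (n - 2) := by
  rw [show n - 1 = n - 2 + 1 by omega, Finset.sum_range_succ,
    ← Finset.sum_range_add_sum_Ico f (show 3 ≤ n - 2 by omega)]
  simp [Finset.sum_range_succ]

/-- Conjugate generators over a prime field. -/
theorem conjGen_prime (hp' : ∀ x : F, ∃ k : ℕ, (k : F) = x) {n : ℕ} (hn : 5 ≤ n) : ConjGen F n := by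
  classical
  by_cases h2 : (2 : F) = 0
  · obtain ⟨K, _, _, β, hβ, hgen, ⟨r, hr, hr0⟩, htr⟩ := exists_root_trace hp' h2 (n := n) (by omega)
    have hone : (-1 : F) = 1 := by linear_combination -h2
    refine conjGen_five hn hβ hgen hp' hr hr0 (fun _ => 1) (fun _ _ => one_ne_zero) ?_ 1 ?_
      (Or.inr (Or.inl hone.symm))
    · have hw : (wpoly F β).coeff (n - 2) = (minpoly F β).coeff (n - 3) - 1 := by
        have hm : (minpoly F β).coeff (n - 2) = 1 := by
          rw [show n - 2 = (minpoly F β).natDegree by have := hβ.deg; omega]; exact hβ.monic.coeff_natDegree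
        rw [wpoly, sub_mul, coeff_sub, C_1, one_mul, show n - 2 = n - 3 + 1 by omega, coeff_X_mul,
          show n - 3 + 1 = n - 2 by omega, hm]
      rw [f_pred hβ, hw, htr, Finset.sum_const, Finset.card_range, nsmul_one, Nat.cast_sub (by omega), Nat.cast_one]
      linear_combination (0 : F) * h2
    · rw [one_pow, one_mul]
      rcases Int.units_eq_one_or (Equiv.Perm.sign (Fin.revPerm : Equiv.Perm (Fin n))) with h | h <;>
        simp [h, hone]
  · obtain ⟨K, _, _, β, hβ, hgen, r, hr, hr0⟩ := exists_root_norm (F := F) (n := n) (by omega)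
    set S : F := (fpoly F β).coeff (n - 1) + n
    set S' : F := S - ∑ _l ∈ Finset.Ico 3 (n - 2), (1 : F)
    obtain ⟨a, ha, hb⟩ : ∃ a : F, a ≠ 0 ∧ S' - a ≠ 0 := by
      by_cases h : S' = 1
      · exact ⟨-1, neg_ne_zero.2 one_ne_zero, by rw [h]; intro e; exact h2 (by linear_combination e)⟩
      · exact ⟨1, one_ne_zero, sub_ne_zero.2 h⟩
    set G : ℕ → F := fun l => if l = 0 then a else if l = 2 then S' - a else 1 with hG
    have hG0 : ∀ l, G l ≠ 0 := fun l => by simp only [hG]; split_ifs <;> first | exact ha | exact hb | exact one_ne_zero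
    set σ : F := ((Equiv.Perm.sign (Fin.revPerm : Equiv.Perm (Fin n)) : ℤ) : F) with hσ
    have hσ0 : σ ≠ 0 := by
      rcases Int.units_eq_one_or (Equiv.Perm.sign (Fin.revPerm : Equiv.Perm (Fin n))) with h | h <;> simp [hσ, h]
    set R : F := ∏ l ∈ range (n - 1), (if l = 1 ∨ l = n - 2 then 1 else G l ^ (l + 1))
    have hR : R ≠ 0 := Finset.prod_ne_zero_iff.2 fun l _ => by
      split_ifs
      · exact one_ne_zero
      · exact pow_ne_zero _ (hG0 l)
    set x0 : F := σ * (-1) ^ (n - 1) / R with hx0def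
    have hx0 : x0 ≠ 0 := div_ne_zero (mul_ne_zero hσ0 (pow_ne_zero _ (neg_ne_zero.2 one_ne_zero))) hR
    set x : F := if n = 5 ∧ a = -x0 then -x0 else x0 with hxdef
    have hx : x ≠ 0 := by rw [hxdef]; split_ifs <;> first | exact neg_ne_zero.2 hx0 | exact hx0
    have hxpow : x ^ (n + 1) = x0 ^ (n + 1) := by
      rw [hxdef]; split_ifs with h
      · rw [h.1]; ring
      · rfl
    set s : ℕ → F := fun l => if l = 1 then x else if l = n - 2 then -x else G l with hs
    refine conjGen_five hn hβ hgen hp' hr hr0 s ?_ ?_ x0 ?_ ?_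
    · intro l _; simp only [hs]; split_ifs <;> first | exact hx | exact neg_ne_zero.2 hx | exact hG0 l
    · show ∑ l ∈ range (n - 1), s l = S
      rw [sum_mid hn]
      have e : ∑ l ∈ Finset.Ico 3 (n - 2), s l = ∑ _l ∈ Finset.Ico 3 (n - 2), (1 : F) :=
        Finset.sum_congr rfl fun l hl => by
          have := Finset.mem_Ico.1 hl
          simp [hs, hG, show l ≠ 1 by omega, show l ≠ n - 2 by omega, show l ≠ 0 by omega, show l ≠ 2 by omega]
      rw [e]
      simp only [hs, hG, show (0 : ℕ) ≠ n - 2 by omega, show (2 : ℕ) ≠ n - 2 by omega,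
        show n - 2 ≠ 1 by omega, if_false, if_true, zero_ne_one, show (2 : ℕ) ≠ 1 by omega, show (2 : ℕ) ≠ 0 by omega]
      simp only [S']
      ring
    · have e : ∀ l ∈ range (n - 1), s l ^ (l + 1) = (if l = 1 ∨ l = n - 2 then 1 else G l ^ (l + 1)) *
          ((if l = 1 then x ^ 2 else 1) * (if l = n - 2 then (-x) ^ (n - 1) else 1)) := by
        intro l _
        by_cases h1 : l = 1
        · subst h1; simp [hs, show 1 ≠ n - 2 by omega]
        · by_cases h3 : l = n - 2
          · subst h3; simp [hs, h1, show n - 2 + 1 = n - 1 by omega]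
          · simp [hs, h1, h3]
      rw [Finset.prod_congr rfl e, Finset.prod_mul_distrib, Finset.prod_mul_distrib, Finset.prod_ite_eq',
        Finset.prod_ite_eq', if_pos (Finset.mem_range.2 (by omega)), if_pos (Finset.mem_range.2 (by omega))]
      have e0 : R * x0 = σ * (-1) ^ (n - 1) := mul_div_cancel₀ _ hR
      have e1 : (x : F) ^ 2 * x ^ (n - 1) = x0 ^ (n + 1) := by
        rw [← pow_add, show 2 + (n - 1) = n + 1 by omega, hxpow]
      have e2 : ((-1 : F) ^ (n - 1)) * (-1) ^ (n - 1) = 1 := by rw [← pow_add, ← two_mul, pow_mul]; simp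
      calc x0 ^ n * σ = σ * ((-1) ^ (n - 1) * (-1) ^ (n - 1)) * x0 ^ n := by rw [e2]; ring
        _ = (σ * (-1) ^ (n - 1)) * (-1) ^ (n - 1) * x0 ^ n := by ring
        _ = (R * x0) * (-1) ^ (n - 1) * x0 ^ n := by rw [e0]
        _ = R * (-1) ^ (n - 1) * x0 ^ (n + 1) := by rw [pow_succ]; ring
        _ = _ := by rw [← e1, neg_pow]; ring
    · rcases eq_or_ne n 5 with h5 | h5
      · left
        simp only [hs, hG, show (0 : ℕ) ≠ n - 2 by omega, show n - 2 ≠ 1 by omega, if_false, if_true, zero_ne_one]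
        rw [hxdef]
        split_ifs with h
        · rw [h.2, neg_neg]
          intro e; exact hx0 ((mul_eq_zero.1 (show (2 : F) * x0 = 0 by linear_combination -e)).resolve_left h2)
        · exact fun e => h ⟨h5, e⟩
      · right; right; omega

theorem zmod5_no_root (y : ZMod 5) : ¬ y ^ 2 + y + 1 = 0 := by revert y; decide

/-- Conjugate generators for `n = 4` over a prime field. -/
theorem conjGen_prime_four (hp' : ∀ x : F, ∃ k : ℕ, (k : F) = x) : ConjGen F 4 := by
  classical
  haveI := Fintype.ofFinite F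
  obtain ⟨p, hpc⟩ := CharP.exists F
  haveI : Fact p.Prime := ⟨CharP.char_is_prime F p⟩
  have hbij : Function.Bijective (ZMod.castHom (dvd_refl p) F) :=
    ⟨ZMod.castHom_injective F, fun x => by obtain ⟨k, rfl⟩ := hp' x; exact ⟨k, map_natCast _ k⟩⟩
  have hcard : Fintype.card F = p := by
    rw [← Fintype.card_of_bijective hbij, ZMod.card]
  have hp2 := (Fact.out : p.Prime).two_le
  obtain h2 | h3 | h5 | h7 : p = 2 ∨ p = 3 ∨ p = 5 ∨ 7 ≤ p := by
    rcases (Nat.lt_or_ge p 7) with h | h
    · interval_cases p <;> first | omega | exact absurd (Fact.out : Nat.Prime _) (by norm_num : ¬ Nat.Prime _) | exact absurd (‹Fact (Nat.Prime 4)›).out (by norm_num) | exact absurd (‹Fact (Nat.Prime 6)›).out (by norm_num)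
    · omega
  · have h20 : (2 : F) = 0 := by exact_mod_cast (show ((2 : ℕ) : F) = 0 by rw [← h2]; exact CharP.cast_eq_zero F p)
    obtain ⟨K, _, _, β, hβ, hgen, r, hr, hr0⟩ := exists_root_norm (F := F) (n := 4) le_rfl
    exact conjGen_four hβ hgen hp' hr hr0 1 one_ne_zero (Or.inr h20)
  · subst h3
    exact conjGen_three_four.map (RingEquiv.ofBijective (ZMod.castHom (dvd_refl 3) F) hbij)
  · have h50 : (5 : F) = 0 := by exact_mod_cast (show ((5 : ℕ) : F) = 0 by rw [← h5]; exact CharP.cast_eq_zero F p)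
    have hroot : ∀ x : F, x ^ 2 + 1 * x + 1 ≠ 0 := by
      subst h5
      intro x
      obtain ⟨y, rfl⟩ := hbij.2 x
      rw [one_mul, ← map_pow, ← map_add, ← map_one (ZMod.castHom (dvd_refl 5) F), ← map_add,
        Ne, map_eq_zero_iff _ hbij.1]
      exact zmod5_no_root y
    obtain ⟨K, iK, iA, β, hβ, hgen, hev, hb, -⟩ := exists_quadratic hp' (1 : F) hroot
    have hr : β ^ 3 = 1 := by rw [map_one, one_mul] at hb; linear_combination (β - 1) * hb
    have h30 : ((3 : ℕ) : F) ≠ 0 := by
      intro e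
      push_cast at e
      exact one_ne_zero (α := F) (by linear_combination 2 * e - h50)
    refine conjGen_four hβ hgen hp' hr h30 1 one_ne_zero (Or.inl ?_)
    rw [tOf, hev, one_pow]
    intro e
    have h3' : (2 + 1 : F) ≠ 0 := by intro e3; exact h30 (by push_cast; linear_combination e3)
    rw [div_eq_iff (neg_ne_zero.2 h3')] at e
    exact h3' (by linear_combination -e - h50)
  · obtain ⟨K, _, _, β, hβ, hgen, r, hr, hr0⟩ := exists_root_norm (F := F) (n := 4) le_rfl
    obtain ⟨y, hy, hy4⟩ : ∃ y : F, y ≠ 0 ∧ y ^ 4 ≠ tOf F β ^ 2 := by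
      by_contra hall
      push Not at hall
      set q : F[X] := X ^ 4 - C (tOf F β ^ 2) with hq
      have hsub : (Finset.univ : Finset F).erase 0 ⊆ q.roots.toFinset := by
        intro y hy
        rw [Multiset.mem_toFinset, mem_roots (by rw [hq]; exact X_pow_sub_C_ne_zero (by norm_num) _)]
        simp [hq, hall y (Finset.ne_of_mem_erase hy)]
      have h := (Finset.card_le_card hsub).trans (Multiset.toFinset_card_le _)
      have h' := h.trans (Polynomial.card_roots' q)
      rw [Finset.card_erase_of_mem (Finset.mem_univ _), Finset.card_univ, hcard, hq,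
        natDegree_X_pow_sub_C] at h'
      omega
    refine conjGen_four hβ hgen hp' hr hr0 y hy (Or.inl fun e => hy4 ?_)
    rw [div_eq_iff (tOf_ne_zero hβ)] at e
    rw [e]; ring

end Cfsg.Agent.Lib.GenSL
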