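import Cfsg.Agent.Lib.GenSL.Params

/-! Generation statements from numerical conditions on the parameters. -/

set_option autoImplicit false

namespace Cfsg.Agent.Lib.GenSL

open Matrix Polynomial Finset Cfsg.Agent.Lib.Subspaces.Transvection

variable {n : ℕ} {F : Type*} [Field F] {K : Type*} [Field K] [Algebra F K]

/-- Being regular unipotent. -/
def IsRegU {F : Type*} [Field F] (n : ℕ) (u : Matrix.SpecialLinearGroup (Fin n) F) : Prop :=
  IsNilpotent ((u : Matrix (Fin n) (Fin n) F) - 1) ∧ ((u : Matrix (Fin n) (Fin n) F) - 1) ^ (n - 1) ≠ 0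

/-- Two regular unipotent generators. -/
def TwoGen (F : Type*) [Field F] (n : ℕ) : Prop :=
  ∃ u v : Matrix.SpecialLinearGroup (Fin n) F, IsRegU n u ∧ IsRegU n v ∧
    Subgroup.closure ({u, v} : Set (Matrix.SpecialLinearGroup (Fin n) F)) = ⊤

/-- Two conjugate regular unipotent generators. -/
def ConjGen (F : Type*) [Field F] (n : ℕ) : Prop :=
  ∃ u g : Matrix.SpecialLinearGroup (Fin n) F, IsRegU n u ∧
    Subgroup.closure ({u, g * u * g⁻¹} : Set (Matrix.SpecialLinearGroup (Fin n) F)) = ⊤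

theorem IsRegU.conj {u : Matrix.SpecialLinearGroup (Fin n) F} (hu : IsRegU n u)
    (g : Matrix.SpecialLinearGroup (Fin n) F) : IsRegU n (g * u * g⁻¹) := by
  set A : Matrix (Fin n) (Fin n) F := (u : Matrix (Fin n) (Fin n) F) - 1
  set G : Matrix (Fin n) (Fin n) F := (g : Matrix (Fin n) (Fin n) F)
  set G' : Matrix (Fin n) (Fin n) F := ((g⁻¹ : Matrix.SpecialLinearGroup (Fin n) F) : Matrix (Fin n) (Fin n) F)
  have hGG : G * G' = 1 := by
    rw [← Matrix.SpecialLinearGroup.coe_mul, mul_inv_cancel, Matrix.SpecialLinearGroup.coe_one]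
  have hG'G : G' * G = 1 := by
    rw [← Matrix.SpecialLinearGroup.coe_mul, inv_mul_cancel, Matrix.SpecialLinearGroup.coe_one]
  have e : ((g * u * g⁻¹ : Matrix.SpecialLinearGroup (Fin n) F) : Matrix (Fin n) (Fin n) F) - 1 = G * A * G' := by
    rw [Matrix.SpecialLinearGroup.coe_mul, Matrix.SpecialLinearGroup.coe_mul, mul_sub, sub_mul, mul_one, hGG]
  have hk : ∀ k, (G * A * G') ^ k = G * A ^ k * G' := by
    intro k
    induction k with
    | zero => rw [pow_zero, pow_zero, mul_one, hGG]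
    | succ k ih =>
      rw [pow_succ, ih, pow_succ]
      calc G * A ^ k * G' * (G * A * G') = G * A ^ k * (G' * G) * A * G' := by simp only [Matrix.mul_assoc]
        _ = _ := by rw [hG'G, mul_one]; simp only [Matrix.mul_assoc]
  obtain ⟨⟨k, hk0⟩, hne⟩ := hu
  refine ⟨⟨k, ?_⟩, ?_⟩
  · rw [e, hk, hk0, mul_zero, zero_mul]
  · rw [e, hk]
    intro h0
    refine hne ?_
    calc A ^ (n - 1) = G' * G * A ^ (n - 1) * (G' * G) := by rw [hG'G, one_mul, mul_one]
      _ = G' * (G * A ^ (n - 1) * G') * G := by simp only [Matrix.mul_assoc]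
      _ = 0 := by rw [h0, mul_zero, zero_mul]

theorem ConjGen.twoGen (h : ConjGen F n) : TwoGen F n := by
  obtain ⟨u, g, hu, hg⟩ := h
  exact ⟨u, g * u * g⁻¹, hu, hu.conj g, hg⟩

namespace Par

variable {β : K} {P : ℕ → Fin n → F} {c : ℕ → F}

/-- The two generators from tuned parameters. -/
theorem twoGen (h : Par F n β P) (hgen : ∀ A : Subring K, β ∈ A → A = ⊤) {r : ℕ} (hr : β ^ r = 1)
    (hr0 : (r : F) ≠ 0) (hreg : ∀ l, l + 1 < n → dd β P c (l + 1) - dd β P c l ≠ 0)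
    (ht : -(-1 : F) ^ n * pi1 β P c 0 + pi1 β P c (n - 1) + ∑ i ∈ range (n - 2), c i * pi1 β P c (i + 1) = 0)
    (hρ : pi1 β P c (n - 2) + pi1 β P c (n - 3) + gco F n 1 + (∑ j ∈ range (n - 2), gco F n (j + 2) * pi1 β P c j)
        + c 0 + ∑ i ∈ range (n - 3), c (i + 1) * pi1 β P c i ≠ 0)
    (hd : -(-1 : F) ^ n * de1 β P c 0 + de1 β P c (n - 1) + ∑ i ∈ range (n - 2), c i * de1 β P c (i + 1) ≠ 0)
    (z0 z1 : F) (hz1 : pi1 β P c (n - 2) + z0 * pi1 β P c 0 + z1 * pi1 β P c 1 = 0)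
    (hz2 : de1 β P c (n - 2) + z0 * de1 β P c 0 + z1 * de1 β P c 1 = 0)
    (hz3 : pi1 β P c (n - 3) + z0 + z1 * pi1 β P c 0 ≠ 0) : TwoGen F n := by
  have h4 := h.four_le
  obtain ⟨u, v, hp⟩ := exists_pair (h.bdata (c := c)) (fun i j hij => by
    rw [h.pmat_super i j hij]; exact hreg i.val (by have := j.isLt; omega))
  have hS := h.setting hp hgen
  have huG : Matrix.SpecialLinearGroup.toGL u ∈ (Subgroup.closure ({u, v} : Set (Matrix.SpecialLinearGroup (Fin n) F))).map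
      Matrix.SpecialLinearGroup.toGL := Subgroup.mem_map_of_mem _ (Subgroup.subset_closure (by simp))
  obtain ⟨hu, hv⟩ := hp.regular (by omega)
  refine ⟨u, v, hu, hv, hS.closure_eq_top hp.reg (hS.full_of_tuned hr hr0 hp.reg huG ?_ ?_ ?_ ?_)⟩
  · exact (h.t_eq hp).trans ht
  · exact fun e => hρ ((h.rho_eq hp).symm.trans e)
  · exact fun e => hd ((h.d_eq hp).symm.trans e)
  · refine ⟨col β P c (n - 2) + z0 • col β P c 0 + z1 • col β P c 1, ?_, ?_, ?_⟩
    · rw [dotProduct_add, dotProduct_add, dotProduct_smul, dotProduct_smul]; exact hz1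
    · rw [dotProduct_add, dotProduct_add, dotProduct_smul, dotProduct_smul]; exact hz2
    · show ones n F ⬝ᵥ (((u⁻¹ : Matrix.SpecialLinearGroup (Fin n) F) : Matrix (Fin n) (Fin n) F) *ᵥ _) ≠ 0
      rw [mulVec_add, mulVec_add, mulVec_smul, mulVec_smul, dotProduct_add, dotProduct_add, dotProduct_smul,
        dotProduct_smul, show n - 2 = n - 3 + 1 by omega, h.phi_succ hp (by omega), h.phi_zero hp,
        h.phi_succ hp (j := 0) (by omega)]
      simp only [smul_eq_mul, mul_one]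
      exact hz3

/-- The conjugate generators over a prime field. -/
theorem conjGen (h : Par F n β P) (hgen : ∀ A : Subring K, β ∈ A → A = ⊤) (hp' : ∀ x : F, ∃ k : ℕ, (k : F) = x)
    {r : ℕ} (hr : β ^ r = 1) (hr0 : (r : F) ≠ 0) (s : ℕ → F)
    (hs : ∀ l, l + 1 < n → dd β P c (l + 1) - dd β P c l = s l) (hs0 : ∀ l, l + 1 < n → s l ≠ 0)
    (k : F) (hk : k ^ n * ((Equiv.Perm.sign (Fin.revPerm : Equiv.Perm (Fin n)) : ℤ) : F) =
      ∏ l ∈ range (n - 1), s l ^ (l + 1))
    (hiff : (-(-1 : F) ^ n * pi1 β P c 0 + pi1 β P c (n - 1) + ∑ i ∈ range (n - 2), c i * pi1 β P c (i + 1) = 0) ↔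
      ¬ (pi1 β P c (n - 2) + pi1 β P c (n - 3) + gco F n 1 + (∑ j ∈ range (n - 2), gco F n (j + 2) * pi1 β P c j)
        + c 0 + ∑ i ∈ range (n - 3), c (i + 1) * pi1 β P c i = 0)) : ConjGen F n := by
  have h4 := h.four_le
  obtain ⟨u, v, hp⟩ := exists_pair (h.bdata (c := c)) (fun i j hij => by
    rw [h.pmat_super i j hij, hs _ (by have := j.isLt; omega)]; exact hs0 _ (by have := j.isLt; omega))
  have hS := h.setting hp hgen
  have huG : Matrix.SpecialLinearGroup.toGL u ∈ (Subgroup.closure ({u, v} : Set (Matrix.SpecialLinearGroup (Fin n) F))).map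
      Matrix.SpecialLinearGroup.toGL := Subgroup.mem_map_of_mem _ (Subgroup.subset_closure (by simp))
  have htop := hS.closure_eq_top hp.reg (hS.full_of_prime hp' hr hr0 hp.reg huG (by
    show (ones n F ⬝ᵥ ((u : Matrix (Fin n) (Fin n) F) *ᵥ wv F n β) = 0) ↔
      ¬ ones n F ⬝ᵥ (((u⁻¹ : Matrix.SpecialLinearGroup (Fin n) F) : Matrix (Fin n) (Fin n) F) *ᵥ wv F n β) = 0
    rw [h.t_eq hp, h.rho_eq hp]; exact hiff))
  obtain ⟨g, hg⟩ := hp.exists_conj (by omega) s (fun i j hij => by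
    rw [hp.super i j hij, h.pmat_super i j hij, hs _ (by have := j.isLt; omega)]) k hk
  exact ⟨u, g, (hp.regular (by omega)).1, by rw [hg]; exact htop⟩

end Par

end Cfsg.Agent.Lib.GenSL
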