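import Cfsg.Agent.Lib.GenSL.SeedUse

/-! `SL(3, q)` is generated by two conjugate regular unipotents, `q ≠ 2, 4`. -/

set_option autoImplicit false

namespace Cfsg.Agent.Lib.GenSL

open Matrix Cfsg.Agent.Lib.Subspaces.Transvection

variable {F : Type*} [Field F]

theorem eq_top_of_three_axes {K : Subgroup (GL (Fin 3) F)} {q2 q3 : F} (hq2 : q2 ≠ 0)
    (h0 : FullAxis K ![0, 1, 0]) (h1 : FullAxis K ![q2, 1 + q3, -q2]) (h2 : FullAxis K ![0, 1 - q3, q2]) :
    ∀ b χ : Fin 3 → F, χ ⬝ᵥ b = 0 → Has K b χ := by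
  intro b χ hb
  have e : χ = (χ 0 / q2) • ![q2, 1 + q3, -q2] + ((χ 2 + χ 0) / q2) • ![0, 1 - q3, q2] +
      (χ 1 - χ 0 / q2 * (1 + q3) - (χ 2 + χ 0) / q2 * (1 - q3)) • ![0, 1, 0] := by
    funext i
    fin_cases i <;> simp <;> field_simp <;> ring
  have hm : χ ∈ axisSpace K := by
    rw [e]
    exact add_mem (add_mem (Submodule.smul_mem _ _ h1) (Submodule.smul_mem _ _ h2)) (Submodule.smul_mem _ _ h0)
  exact hm b hb

/-- An element whose cube generates the field. -/
theorem exists_cube_gen [Finite F] (h2 : Nat.card F ≠ 2) (h4 : Nat.card F ≠ 4) :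
    ∃ l : F, l ≠ 0 ∧ l ^ 3 ≠ 1 ∧ ∀ A : Subring F, (l ^ 3)⁻¹ ∈ A → A = ⊤ := by
  classical
  obtain ⟨γ, hγ⟩ := IsCyclic.exists_ofOrder_eq_natCard (α := Fˣ)
  rw [Nat.card_units] at hγ
  have hq := Finite.one_lt_card (α := F)
  refine ⟨γ, γ.ne_zero, fun e => ?_, fun A hA => ?_⟩
  · have h3 : γ ^ 3 = 1 := Units.ext (by rw [Units.val_pow_eq_pow_val]; exact e)
    have hd := orderOf_dvd_of_pow_eq_one h3
    rw [hγ] at hd
    rcases (Nat.dvd_prime Nat.prime_three).1 hd with e1 | e1 <;> omega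
  · by_contra hne
    haveI : Finite A := Subtype.finite
    haveI : Fintype A := Fintype.ofFinite A
    letI := Fintype.fieldOfDomain A
    set β : A := ⟨((γ : F) ^ 3)⁻¹, hA⟩
    have hβ0 : β ≠ 0 := fun h => inv_ne_zero (pow_ne_zero 3 γ.ne_zero) (congrArg Subtype.val h)
    have h1 : ((γ : F) ^ 3)⁻¹ ^ (Nat.card A - 1) = 1 := by
      have h1 := congrArg Subtype.val (FiniteField.pow_card_sub_one_eq_one β hβ0)
      rw [Nat.card_eq_fintype_card]
      exact h1
    rw [inv_pow, inv_eq_one, ← pow_mul] at h1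
    have hdvd : Nat.card F - 1 ∣ 3 * (Nat.card A - 1) := by
      rw [← hγ, orderOf_dvd_iff_pow_eq_one, ← Units.val_eq_one, Units.val_pow_eq_pow_val]
      exact h1
    have hA2 : 2 ≤ Nat.card A := Finite.one_lt_card
    have hle := Nat.le_of_dvd (Nat.mul_pos (by omega) (by omega)) hdvd
    have hdim : 2 ≤ Module.finrank A F := by
      have hpos : 0 < Module.finrank A F := Module.finrank_pos
      by_contra hlt
      have e := Module.natCard_eq_pow_finrank (K := A) (V := F)
      rw [show Module.finrank A F = 1 by omega, pow_one] at e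
      have : Function.Surjective ((↑) : A → F) :=
        (Function.Injective.bijective_of_nat_card_le Subtype.val_injective e.le).2
      refine hne (eq_top_iff.2 fun x _ => ?_)
      obtain ⟨y, hy⟩ := this x
      exact hy ▸ y.2
    have e := Module.natCard_eq_pow_finrank (K := A) (V := F)
    have hsq : Nat.card A * Nat.card A ≤ Nat.card F := by
      rw [e, ← pow_two]
      exact Nat.pow_le_pow_right (by omega) hdim
    rcases Nat.lt_or_ge (Nat.card A) 3 with h3 | h3
    · have : Nat.card A = 2 := by omega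
      rw [this] at hle hsq
      omega
    · have := Nat.mul_le_mul_right (Nat.card A) h3
      omega

/-- Two conjugate regular unipotent generators of `SL(3, q)`. -/
theorem conjGen_three [Finite F] (h2 : Nat.card F ≠ 2) (h4 : Nat.card F ≠ 4) : ConjGen F 3 := by
  classical
  haveI := Fintype.ofFinite F
  obtain ⟨l, hl, hl3, hgen⟩ := exists_cube_gen (F := F) h2 h4
  set μ : F := (l ^ 2)⁻¹ with hμ
  have hl1 : l - 1 ≠ 0 := sub_ne_zero.2 (fun e => hl3 (by rw [e, one_pow]))
  have hml : μ - l ≠ 0 := by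
    rw [hμ, sub_ne_zero]
    intro e
    have h := congrArg (fun x => x * l ^ 2) e
    simp only [inv_mul_cancel₀ (pow_ne_zero 2 hl)] at h
    exact hl3 (by linear_combination -h)
  set q3 : F := (3 - 2 * l - μ) / (μ - l) with hq3
  set q2 : F := -(l * (l - 1) ^ 3) with hq2def
  have hq2 : q2 ≠ 0 := neg_ne_zero.2 (mul_ne_zero hl (pow_ne_zero 3 hl1))
  let u : Matrix.SpecialLinearGroup (Fin 3) F :=
    ⟨!![1, 0, 0; 0, 1 - q3, q2; 1, -q3 ^ 2 / q2, 1 + q3], by
      rw [Matrix.det_fin_three]; simp; field_simp; ring⟩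
  let C : Matrix.SpecialLinearGroup (Fin 3) F :=
    ⟨!![l, 1, 0; 0, l, 0; 0, 0, μ], by
      rw [Matrix.det_fin_three]; simp [hμ]; field_simp⟩
  let g : Matrix.SpecialLinearGroup (Fin 3) F :=
    ⟨!![1, (l - 1) * (l - 1 - q3) / q2, l - 1; 0, l * μ, 0; 0, l * (l - 2 + μ * (1 + q3) - q3) / q2, l], by
      rw [Matrix.det_fin_three]; simp [hμ]; field_simp⟩
  have hl3' : l ^ 3 - 1 ≠ 0 := sub_ne_zero.2 hl3
  have hl3'' : 1 - l ^ 3 ≠ 0 := sub_ne_zero.2 (Ne.symm hl3)
  have hgu : g * u = u * C * g := by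
    refine Subtype.ext ?_
    show (g : Matrix (Fin 3) (Fin 3) F) * (u : Matrix (Fin 3) (Fin 3) F) =
      (u : Matrix (Fin 3) (Fin 3) F) * (C : Matrix (Fin 3) (Fin 3) F) * (g : Matrix (Fin 3) (Fin 3) F)
    ext i j
    fin_cases i <;> fin_cases j <;>
      (simp [u, C, g, Matrix.mul_apply, Fin.sum_univ_three, hq3, hq2def, hμ]; try (first | ring1 | (field_simp; ring1) | (field_simp; ring_nf; done)))
  refine ⟨u, g, ⟨⟨3, ?_⟩, ?_⟩, ?_⟩
  · have e : (u : Matrix (Fin 3) (Fin 3) F) - 1 = !![0, 0, 0; 0, -q3, q2; 1, -q3 ^ 2 / q2, q3] := by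
      ext i j; fin_cases i <;> fin_cases j <;> simp [u]
    rw [e, pow_succ, pow_two]
    ext i j
    fin_cases i <;> fin_cases j <;> (simp [Matrix.mul_apply, Fin.sum_univ_three]; try (first | ring1 | (field_simp; ring1) | (field_simp; ring_nf; done)))
  · have e : (u : Matrix (Fin 3) (Fin 3) F) - 1 = !![0, 0, 0; 0, -q3, q2; 1, -q3 ^ 2 / q2, q3] := by
      ext i j; fin_cases i <;> fin_cases j <;> simp [u]
    rw [e, show 3 - 1 = 2 from rfl, pow_two]
    intro h0
    have h1 := congrFun (congrFun h0 1) 0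
    simp [Matrix.mul_apply, Fin.sum_univ_three] at h1
    exact hq2 h1
  set H := Subgroup.closure ({u, g * u * g⁻¹} : Set (Matrix.SpecialLinearGroup (Fin 3) F))
  have hv : g * u * g⁻¹ = u * C := by rw [hgu, mul_inv_cancel_right]
  have hu : u ∈ H := Subgroup.subset_closure (Or.inl rfl)
  have hC : C ∈ H := by
    have : u⁻¹ * (g * u * g⁻¹) = C := by rw [hv, inv_mul_cancel_left]
    rw [← this]
    exact mul_mem (inv_mem hu) (Subgroup.subset_closure (Or.inr rfl))
  set G := H.map Matrix.SpecialLinearGroup.toGL with hGdef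
  set U := Matrix.SpecialLinearGroup.toGL u
  set Cg := Matrix.SpecialLinearGroup.toGL C
  have huG : U ∈ G := Subgroup.mem_map_of_mem _ hu
  have hCG : Cg ∈ G := Subgroup.mem_map_of_mem _ hC
  refine eq_top_of_has (by norm_num) H ?_
  -- a power of `C` is a transvection
  set φ : Fin 3 → F := ![0, 1, 0] with hφ
  have hpow : ∀ k : ℕ, (C : Matrix (Fin 3) (Fin 3) F) ^ (k + 1) =
      !![l ^ (k + 1), (k + 1 : F) * l ^ k, 0; 0, l ^ (k + 1), 0; 0, 0, μ ^ (k + 1)] := by
    intro k
    induction k with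
    | zero => simp [C]
    | succ k ih =>
      rw [pow_succ, ih]
      ext i j
      fin_cases i <;> fin_cases j <;> simp [C, Matrix.mul_apply, Fin.sum_univ_three] <;> ring
  have hT : Mem1 G ![-l⁻¹, 0, 0] φ := by
    refine ⟨by simp [φ], ?_⟩
    obtain ⟨m, hm⟩ : ∃ m, Fintype.card F - 1 = m + 1 := ⟨Fintype.card F - 2, by
      have := Fintype.one_lt_card (α := F); omega⟩
    have e : Cg ^ (m + 1) = tv ![-l⁻¹, 0, 0] φ := by
      refine Units.ext ?_
      rw [Units.val_pow_eq_pow_val, coe_tv (by simp [φ]), show (Cg : Matrix (Fin 3) (Fin 3) F) = C from rfl, hpow]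
      have h1 : ∀ x : F, x ≠ 0 → x ^ (m + 1) = 1 := fun x hx => hm ▸ FiniteField.pow_card_sub_one_eq_one x hx
      have hm1 : (m + 1 : F) = -1 := by
        have : ((m + 1 + 1 : ℕ) : F) = 0 := by
          rw [← hm, Nat.sub_add_cancel Fintype.card_pos]; exact Nat.cast_card_eq_zero F
        push_cast at this
        linear_combination this
      have hlm : l ^ m = l⁻¹ := by
        refine eq_inv_of_mul_eq_one_left ?_
        rw [← pow_succ]; exact h1 l hl
      rw [h1 l hl, h1 μ (inv_ne_zero (pow_ne_zero 2 hl)), hm1, hlm]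
      ext i j
      fin_cases i <;> fin_cases j <;> simp [φ, vecMulVec_apply]
    rw [← e]
    exact pow_mem hCG _
  have hU : (U : Matrix (Fin 3) (Fin 3) F) = !![1, 0, 0; 0, 1 - q3, q2; 1, -q3 ^ 2 / q2, 1 + q3] := rfl
  have hCg : (Cg : Matrix (Fin 3) (Fin 3) F) = !![l, 1, 0; 0, l, 0; 0, 0, μ] := rfl
  -- conjugation by `u`
  have hφ' : φ ᵥ* ((U⁻¹ : GL (Fin 3) F) : Matrix (Fin 3) (Fin 3) F) = ![q2, 1 + q3, -q2] := by
    have e : ![q2, 1 + q3, -q2] ᵥ* (U : Matrix (Fin 3) (Fin 3) F) = φ := by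
      ext j
      fin_cases j <;> (simp [hU, φ, Matrix.vecMul, dotProduct, Fin.sum_univ_three]; try (first | ring1 | (field_simp; ring1) | (field_simp; ring_nf; done)))
    rw [← e, vecMul_vecMul, ← Units.val_mul, mul_inv_cancel, Units.val_one, vecMul_one]
  have hub : ∀ x : F, (U : Matrix (Fin 3) (Fin 3) F) *ᵥ ![x, 0, 0] = ![x, 0, x] := by
    intro x
    ext j
    fin_cases j <;> simp [hU, Matrix.mulVec, dotProduct, Fin.sum_univ_three]
  have hT' := hT.conj huG
  rw [hub, hφ'] at hT'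
  have hz0 := hT.comm hT' (by simp [φ])
  -- conjugation by `C`
  have hCm : ∀ z : Fin 3 → F, Mem1 G z φ → Mem1 G ![(z 0 + z 1 / l), z 1, μ / l * z 2] φ := by
    intro z hz
    have h := hz.conj hCG
    have e : φ ᵥ* ((Cg⁻¹ : GL (Fin 3) F) : Matrix (Fin 3) (Fin 3) F) = l⁻¹ • φ := by
      have e1 : (l⁻¹ • φ) ᵥ* (Cg : Matrix (Fin 3) (Fin 3) F) = φ := by
        ext j
        fin_cases j <;> simp [hCg, φ, Matrix.vecMul, dotProduct, Fin.sum_univ_three, hl]
      conv_lhs => rw [← e1]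
      rw [vecMul_vecMul, ← Units.val_mul, mul_inv_cancel, Units.val_one, vecMul_one]
    rw [e] at h
    have h1 := h.1
    rw [smul_dotProduct, smul_eq_mul, mul_eq_zero] at h1
    have h1' := h1.resolve_left (inv_ne_zero hl)
    refine ⟨?_, ?_⟩
    · have := hz.1
      simpa [φ, dotProduct, Fin.sum_univ_three] using this
    · have h2 := h.2
      rw [← tv_smul h1'] at h2
      convert h2 using 2
      ext j
      fin_cases j <;> simp [hCg, φ, Matrix.mulVec, dotProduct, Fin.sum_univ_three] <;> field_simp <;> ring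
  let S : AddSubgroup F :=
    { carrier := {x | Mem1 G ![0, 0, x] φ}
      zero_mem' := ⟨by simp [φ], by
        rw [show (![0, 0, 0] : Fin 3 → F) = 0 by ext j; fin_cases j <;> rfl, tv_zero_left]; exact one_mem G⟩
      add_mem' := fun {a b} ha hb => by
        show Mem1 G _ φ
        have := ha.add hb
        simpa using this
      neg_mem' := fun {a} ha => by
        show Mem1 G _ φ
        have := ha.neg
        simpa using this }
  have hνS : ∀ x ∈ S, μ / l * x ∈ S := fun x hx => by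
    have h := hCm _ hx
    show Mem1 G _ φ
    simpa using h
  let A : Subring F :=
    { carrier := {a | ∀ x ∈ S, a * x ∈ S}
      mul_mem' := fun {a c} ha hc x hx => by rw [mul_assoc]; exact ha _ (hc x hx)
      one_mem' := fun x hx => by rwa [one_mul]
      add_mem' := fun {a c} ha hc x hx => by rw [add_mul]; exact add_mem (ha x hx) (hc x hx)
      zero_mem' := fun x _ => by rw [zero_mul]; exact zero_mem S
      neg_mem' := fun {a} ha x hx => by rw [neg_mul]; exact neg_mem (ha x hx) }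
  have hA : A = ⊤ := hgen A (by
    have e : (l ^ 3)⁻¹ = μ / l := by rw [hμ]; field_simp
    rw [e]; exact hνS)
  have he2 : Has G ![0, 0, 1] φ := by
    have hd := (hCm _ hz0).sub hz0
    set c : F := -(q2 * -l⁻¹) * -l⁻¹ with hc
    have hc0 : c ≠ 0 := mul_ne_zero (neg_ne_zero.2 (mul_ne_zero hq2 (neg_ne_zero.2 (inv_ne_zero hl))))
      (neg_ne_zero.2 (inv_ne_zero hl))
    have hne : (μ / l - 1) * c ≠ 0 := by
      refine mul_ne_zero ?_ hc0
      rw [sub_ne_zero, Ne, div_eq_one_iff_eq hl]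
      exact fun e => hml (sub_eq_zero.2 e)
    have hmem : (μ / l - 1) * c ∈ S := by
      show Mem1 G _ φ
      convert hd using 1
      ext j
      fin_cases j <;> simp [c, Matrix.vecHead, Matrix.vecTail] <;> ring
    refine has_of_mem1 fun x => ?_
    have h := (hA ▸ Subring.mem_top (x * ((μ / l - 1) * c)⁻¹) : x * ((μ / l - 1) * c)⁻¹ ∈ A) _ hmem
    rw [mul_assoc, inv_mul_cancel₀ hne, mul_one] at h
    have h' : Mem1 G ![0, 0, x] φ := h
    convert h' using 1
    ext j; fin_cases j <;> simp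
  have hb : Has G ![1, 0, 1] φ := by
    refine has_of_mem1 fun x => ?_
    have h := (he2.mem1 (-(x * l) / q2)).comm hT' (by simp [φ])
    convert h using 1
    ext j
    fin_cases j <;> simp [Matrix.vecHead, Matrix.vecTail] <;> field_simp
  have h0 : FullAxis G φ := by
    intro z hz
    have hz1 : z 1 = 0 := by simpa [φ, dotProduct, Fin.sum_univ_three] using hz
    have h := (hb.smul (z 0)).add (he2.smul (z 2 - z 0))
    convert h using 1
    ext j
    fin_cases j <;> simp [hz1]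
  have h1 := fullAxis_conj h0 huG
  rw [hφ'] at h1
  have h2 := fullAxis_conj h0 (inv_mem huG)
  rw [inv_inv, show φ ᵥ* (U : Matrix (Fin 3) (Fin 3) F) = ![0, 1 - q3, q2] by
    ext j
    fin_cases j <;> simp [hU, φ, Matrix.vecMul, dotProduct, Fin.sum_univ_three]] at h2
  exact eq_top_of_three_axes hq2 h0 h1 h2

end Cfsg.Agent.Lib.GenSL
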