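import Cfsg.Agent.Lib.GenSL.ThreeFour
import Cfsg.Agent.Lib.GenSL.Three
import Mathlib.Algebra.QuadraticAlgebra.Basic

/-! `SL(3, 2)` and `SL(3, 4)` are generated by two conjugate regular unipotents. -/

set_option autoImplicit false

namespace Cfsg.Agent.Lib.GenSL

open Matrix Cfsg.Agent.Lib.Subspaces.Transvection

variable {R : Type*} [CommRing R]

/-- The Jordan block over a ring. -/
def J3 (R : Type*) [CommRing R] : Matrix.SpecialLinearGroup (Fin 3) R :=
  ⟨!![1, 1, 0; 0, 1, 1; 0, 0, 1], by simp [Matrix.det_fin_three]⟩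

/-- The generators and their inverses. -/
def gens4 (J g : Matrix.SpecialLinearGroup (Fin 3) R) (v vi ji : Matrix.SpecialLinearGroup (Fin 3) R) :
    List (Matrix.SpecialLinearGroup (Fin 3) R) := [J, ji, v, vi]

theorem word_mem {g v vi ji : Matrix.SpecialLinearGroup (Fin 3) R} (hv : g * J3 R = v * g)
    (hji : J3 R * ji = 1) (hvi : v * vi = 1) (w : List ℕ) :
    (w.map fun k => (gens4 (J3 R) g v vi ji).getD k 1).prod ∈
      Subgroup.closure ({J3 R, g * J3 R * g⁻¹} : Set (Matrix.SpecialLinearGroup (Fin 3) R)) := by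
  have e : g * J3 R * g⁻¹ = v := by rw [hv, mul_inv_cancel_right]
  refine Subgroup.list_prod_mem _ fun x hx => ?_
  obtain ⟨k, -, rfl⟩ := List.mem_map.1 hx
  rcases k with _ | _ | _ | _ | k
  · exact Subgroup.subset_closure (Or.inl rfl)
  · show ji ∈ _
    rw [← inv_eq_of_mul_eq_one_right hji]
    exact inv_mem (Subgroup.subset_closure (Or.inl rfl))
  · show v ∈ _
    rw [← e]
    exact Subgroup.subset_closure (Or.inr rfl)
  · show vi ∈ _
    rw [← inv_eq_of_mul_eq_one_right hvi, ← e]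
    exact inv_mem (Subgroup.subset_closure (Or.inr rfl))
  · show (1 : Matrix.SpecialLinearGroup (Fin 3) R) ∈ _
    exact one_mem _

/-- From transvections over a ring to conjugate generators over a field. -/
theorem conjGen_of_transvections {F : Type*} [Field F] (ψ : R →+* F) (c : R)
    (hspan : ∀ x : F, x = 0 ∨ x = 1 ∨ x = ψ c ∨ x = 1 + ψ c)
    (g : Matrix.SpecialLinearGroup (Fin 3) R)
    (h0 : ∀ t : R, (t = 1 ∨ t = c) → ∃ A ∈ Subgroup.closure
      ({J3 R, g * J3 R * g⁻¹} : Set (Matrix.SpecialLinearGroup (Fin 3) R)),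
      (A : Matrix (Fin 3) (Fin 3) R) = !![1, 0, 0; t, 1, 0; 0, 0, 1])
    (h2 : ∀ t : R, (t = 1 ∨ t = c) → ∃ A ∈ Subgroup.closure
      ({J3 R, g * J3 R * g⁻¹} : Set (Matrix.SpecialLinearGroup (Fin 3) R)),
      (A : Matrix (Fin 3) (Fin 3) R) = !![1, 0, 0; 0, 1, 0; t, 0, 1]) : ConjGen F 3 := by
  set φ := Matrix.SpecialLinearGroup.map (n := Fin 3) ψ
  set u := φ (J3 R)
  set H := Subgroup.closure ({u, φ g * u * (φ g)⁻¹} : Set (Matrix.SpecialLinearGroup (Fin 3) F))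
  have hmap : H = (Subgroup.closure ({J3 R, g * J3 R * g⁻¹} : Set (Matrix.SpecialLinearGroup (Fin 3) R))).map φ := by
    rw [MonoidHom.map_closure, Set.image_pair, map_mul, map_mul, map_inv]
  have hu : (u : Matrix (Fin 3) (Fin 3) F) = !![1, 1, 0; 0, 1, 1; 0, 0, 1] := by
    ext i j
    rw [show (u : Matrix (Fin 3) (Fin 3) F) i j = ψ ((J3 R : Matrix (Fin 3) (Fin 3) R) i j) from rfl]
    fin_cases i <;> fin_cases j <;> simp [J3]
  have hreg : RegUpper (Matrix.SpecialLinearGroup.toGL u) := by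
    have e : ((Matrix.SpecialLinearGroup.toGL u : GL (Fin 3) F) : Matrix (Fin 3) (Fin 3) F) =
        !![1, 1, 0; 0, 1, 1; 0, 0, 1] := hu
    refine ⟨fun i => ?_, fun i j h => ?_, fun i j h => ?_⟩ <;> rw [e]
    · fin_cases i <;> simp
    · fin_cases i <;> fin_cases j <;> simp_all
    · fin_cases i <;> fin_cases j <;> simp_all
  refine ⟨u, φ g, hreg.isRegU (by norm_num), ?_⟩
  set G := H.map Matrix.SpecialLinearGroup.toGL
  set χ : Fin 3 → F := ![1, 0, 0]
  have hgen : ∀ (t : R), (t = 1 ∨ t = c) →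
      Mem1 G ![0, ψ t, 0] χ ∧ Mem1 G ![0, 0, ψ t] χ := by
    intro t ht
    constructor
    · obtain ⟨A, hA, hAe⟩ := h0 t ht
      refine ⟨by simp [χ], φ A, hmap ▸ Subgroup.mem_map_of_mem φ hA, Units.ext ?_⟩
      rw [coe_tv (by simp [χ])]
      show (φ A : Matrix (Fin 3) (Fin 3) F) = _
      ext i j
      have := congrArg ψ (congrFun (congrFun hAe i) j)
      rw [show (φ A : Matrix (Fin 3) (Fin 3) F) i j = ψ ((A : Matrix (Fin 3) (Fin 3) R) i j) from rfl, this]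
      fin_cases i <;> fin_cases j <;> simp [χ, vecMulVec_apply]
    · obtain ⟨A, hA, hAe⟩ := h2 t ht
      refine ⟨by simp [χ], φ A, hmap ▸ Subgroup.mem_map_of_mem φ hA, Units.ext ?_⟩
      rw [coe_tv (by simp [χ])]
      show (φ A : Matrix (Fin 3) (Fin 3) F) = _
      ext i j
      have := congrArg ψ (congrFun (congrFun hAe i) j)
      rw [show (φ A : Matrix (Fin 3) (Fin 3) F) i j = ψ ((A : Matrix (Fin 3) (Fin 3) R) i j) from rfl, this]
      fin_cases i <;> fin_cases j <;> simp [χ, vecMulVec_apply]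
  obtain ⟨g1, g1'⟩ := hgen 1 (Or.inl rfl)
  obtain ⟨gc, gc'⟩ := hgen c (Or.inr rfl)
  rw [map_one] at g1 g1'
  have hz : Mem1 G (0 : Fin 3 → F) χ := ⟨dotProduct_zero _, by rw [tv_zero_left]; exact one_mem G⟩
  have hH : ∀ (b : Fin 3 → F), Mem1 G b χ → Mem1 G (ψ c • b) χ → Has G b χ := fun b hb hcb =>
    has_of_mem1 fun x => by
      rcases hspan x with rfl | rfl | rfl | rfl
      · rw [zero_smul]; exact hz
      · rw [one_smul]; exact hb
      · exact hcb
      · rw [add_smul, one_smul]; exact hb.add hcb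
  have k0 : Has G ![0, 1, 0] χ := hH _ g1 (by simpa using gc)
  have k2 : Has G ![0, 0, 1] χ := hH _ g1' (by simpa using gc')
  have hfull : FullAxis G χ := by
    intro z hz
    have hz0 : z 0 = 0 := by simpa [χ, dotProduct, Fin.sum_univ_three] using hz
    have h := (k0.smul (z 1)).add (k2.smul (z 2))
    convert h using 1
    ext j
    fin_cases j <;> simp [hz0]
  have huG : Matrix.SpecialLinearGroup.toGL u ∈ G := Subgroup.mem_map_of_mem _ (Subgroup.subset_closure (Or.inl rfl))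
  exact eq_top_of_has (by norm_num) H (has_of_fullAxis hreg huG (by norm_num) hfull (by simp [χ]))

/-- The ring with four elements. -/
abbrev R4 := QuadraticAlgebra (ZMod 2) 1 1

/-- The conjugating element over the ring with four elements. -/
def g34 : Matrix.SpecialLinearGroup (Fin 3) R4 :=
  ⟨!![⟨1, 1⟩, ⟨0, 1⟩, ⟨0, 0⟩; ⟨1, 0⟩, ⟨0, 1⟩, ⟨0, 1⟩; ⟨1, 0⟩, ⟨1, 0⟩, ⟨1, 0⟩], by decide +kernel⟩

/-- The second generator. -/
def v34 : Matrix.SpecialLinearGroup (Fin 3) R4 :=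
  ⟨!![⟨0, 1⟩, ⟨0, 0⟩, ⟨0, 1⟩; ⟨0, 1⟩, ⟨0, 0⟩, ⟨0, 0⟩; ⟨0, 0⟩, ⟨0, 1⟩, ⟨1, 1⟩], by decide +kernel⟩

/-- The inverse of the second generator. -/
def vi34 : Matrix.SpecialLinearGroup (Fin 3) R4 :=
  ⟨!![⟨0, 0⟩, ⟨1, 1⟩, ⟨0, 0⟩; ⟨1, 0⟩, ⟨1, 0⟩, ⟨1, 1⟩; ⟨1, 1⟩, ⟨1, 1⟩, ⟨0, 0⟩], by decide +kernel⟩

/-- The inverse of the Jordan block. -/
def ji34 : Matrix.SpecialLinearGroup (Fin 3) R4 :=
  ⟨!![1, 1, 1; 0, 1, 1; 0, 0, 1], by decide +kernel⟩

theorem conjGen_three_card_four {F : Type*} [Field F] (ω : F) (hω : ω ^ 2 + ω + 1 = 0) (h2 : (2 : F) = 0)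
    (hspan : ∀ x : F, x = 0 ∨ x = 1 ∨ x = ω ∨ x = 1 + ω) : ConjGen F 3 := by
  haveI : CharP F 2 := (CharTwo.of_one_ne_zero_of_two_eq_zero one_ne_zero h2)
  letI := ZMod.algebra F 2
  let ψ : R4 →ₐ[ZMod 2] F := QuadraticAlgebra.lift ⟨ω, by rw [one_smul, one_smul]; linear_combination hω - (ω + 1) * h2⟩
  have hv : g34 * J3 R4 = v34 * g34 := Subtype.ext (by decide +kernel)
  have hji : J3 R4 * ji34 = 1 := Subtype.ext (by decide +kernel)
  have hvi : v34 * vi34 = 1 := Subtype.ext (by decide +kernel)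
  have hψ : ψ.toRingHom ⟨0, 1⟩ = ω := by simp [ψ, QuadraticAlgebra.lift]
  refine conjGen_of_transvections ψ.toRingHom (⟨0, 1⟩ : R4) (by rw [hψ]; exact hspan) g34 ?_ ?_
  · intro t ht
    rcases ht with rfl | rfl
    · exact ⟨_, word_mem hv hji hvi [0, 2, 0, 0, 3, 1], by decide +kernel⟩
    · exact ⟨_, word_mem hv hji hvi [0, 2, 2, 0, 3, 1, 3], by decide +kernel⟩
  · intro t ht
    rcases ht with rfl | rfl
    · exact ⟨_, word_mem hv hji hvi [2, 1, 2, 0, 0, 3, 0, 3], by decide +kernel⟩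
    · exact ⟨_, word_mem hv hji hvi [1, 3, 0, 2, 2, 1, 2, 0], by decide +kernel⟩

/-- The conjugating element over two elements. -/
def g32 : Matrix.SpecialLinearGroup (Fin 3) (ZMod 2) :=
  ⟨!![0, 0, 1; 0, 1, 1; 1, 1, 0], by decide +kernel⟩

theorem conjGen_three_two : ConjGen (ZMod 2) 3 := by
  let v : Matrix.SpecialLinearGroup (Fin 3) (ZMod 2) := ⟨!![1, 0, 0; 1, 1, 0; 0, 1, 1], by decide +kernel⟩
  let vi : Matrix.SpecialLinearGroup (Fin 3) (ZMod 2) := ⟨!![1, 0, 0; 1, 1, 0; 1, 1, 1], by decide +kernel⟩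
  let ji : Matrix.SpecialLinearGroup (Fin 3) (ZMod 2) := ⟨!![1, 1, 1; 0, 1, 1; 0, 0, 1], by decide +kernel⟩
  have hv : g32 * J3 (ZMod 2) = v * g32 := Subtype.ext (by decide +kernel)
  have hji : J3 (ZMod 2) * ji = 1 := Subtype.ext (by decide +kernel)
  have hvi : v * vi = 1 := Subtype.ext (by decide +kernel)
  refine conjGen_of_transvections (RingHom.id (ZMod 2)) 1 (by decide) g32 ?_ ?_
  · intro t ht
    rcases ht with rfl | rfl <;> exact ⟨_, word_mem hv hji hvi [0, 2, 2, 0, 2, 0], by decide +kernel⟩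
  · intro t ht
    rcases ht with rfl | rfl <;> exact ⟨_, word_mem hv hji hvi [2, 2], by decide +kernel⟩

end Cfsg.Agent.Lib.GenSL
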